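import Groth.Agent.AmpleLib.Locus

/-!
# Isomorphisms of invertible modules from compatible systems of generators
-/

set_option autoImplicit false
set_option linter.style.haveILetI false
universe u v

open CategoryTheory Limits AlgebraicGeometry Opposite TopologicalSpace

noncomputable section

namespace Groth.Agent.AmpleLib

open Groth.Agent.QCoh Groth.Agent.Props.GenLocus Groth.Agent.Props.GenTensor Groth.Agent.Props.GenProd

variable {X : Scheme.{u}}

/-- Two modules with generators having the same transition functions are isomorphic, compatibly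
with the generators. -/
theorem exists_iso_of_gen {M N : X.Modules} {ι : Type v} (W : ι → X.Opens) (hcov : ⊤ ≤ iSup W)
    (g : ∀ i, Γ(M, W i)) (hg : ∀ i, IsGen M (W i) (g i))
    (h : ∀ i, Γ(N, W i)) (hh : ∀ i, IsGen N (W i) (h i))
    (compat : ∀ (i j : ι) (V : X.Opens) (hi : V ≤ W i) (hj : V ≤ W j) (u : Γ(X, V)),
      res M hj (g j) = u • res M hi (g i) → res N hj (h j) = u • res N hi (h i)) :
    ∃ e : M ≅ N, ∀ (i : ι) (V : X.Opens) (hi : V ≤ W i) (a : Γ(X, V)),
      e.hom.app V (a • res M hi (g i)) = a • res N hi (h i) := by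
  have hc : ∀ V : X.Opens, V ≤ iSup fun i ↦ V ⊓ W i := fun V x hx ↦ by
    obtain ⟨i, hi⟩ := Opens.mem_iSup.mp (hcov (trivial : x ∈ (⊤ : X.Opens)))
    exact Opens.mem_iSup.mpr ⟨i, hx, hi⟩
  let Rel : ∀ V : X.Opens, Γ(M, V) → Γ(N, V) → Prop := fun V m τ ↦
    ∀ (i : ι) (V' : X.Opens) (hV : V' ≤ V) (hi : V' ≤ W i) (a : Γ(X, V')),
      res M hV m = a • res M hi (g i) → res N hV τ = a • res N hi (h i)
  have huniq : ∀ V m τ τ', Rel V m τ → Rel V m τ' → τ = τ' := by
    intro V m τ τ' h1 h2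
    refine eq_of_locally_eq N (U := fun i ↦ V ⊓ W i) (fun i ↦ inf_le_left) (hc V) _ _ fun i ↦ ?_
    obtain ⟨a, ha, -⟩ := (hg i).exists_eq (inf_le_right : V ⊓ W i ≤ W i)
      (res M (inf_le_left : V ⊓ W i ≤ V) m)
    exact (h1 i _ inf_le_left inf_le_right a ha).trans (h2 i _ inf_le_left inf_le_right a ha).symm
  have hex : ∀ V m, ∃ τ, Rel V m τ := by
    intro V m
    choose a ha ha' using fun i ↦ (hg i).exists_eq (inf_le_right : V ⊓ W i ≤ W i)
      (res M (inf_le_left : V ⊓ W i ≤ V) m)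
    have key : ∀ (i j : ι) (V' : X.Opens) (hV : V' ≤ V) (hi : V' ≤ W i) (hj : V' ≤ W j)
        (b c : Γ(X, V')), res M hV m = b • res M hi (g i) → res M hV m = c • res M hj (g j) →
        b • res N hi (h i) = c • res N hj (h j) := by
      intro i j V' hV hi hj b c hb hcj
      obtain ⟨u, hu, -⟩ := (hg i).exists_eq hi (res M hj (g j))
      rw [compat i j V' hi hj u hu, smul_smul]
      congr 1
      refine (hg i).injective hi ?_
      rw [← hb, hcj, hu, smul_smul]
    obtain ⟨τ, hτ⟩ := exists_glue N (U := fun i ↦ V ⊓ W i) (fun i ↦ inf_le_left) (hc V)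
      (fun i ↦ a i • res N (inf_le_right : V ⊓ W i ≤ W i) (h i)) fun i j ↦ by
        simp only [res_smul, res_res]
        refine key i j _ (inf_le_left.trans inf_le_left) _ _ _ _ ?_ ?_
        · have := congrArg (res M (inf_le_left : (V ⊓ W i) ⊓ (V ⊓ W j) ≤ _)) (ha i)
          rwa [res_res, res_smul, res_res] at this
        · have := congrArg (res M (inf_le_right : (V ⊓ W i) ⊓ (V ⊓ W j) ≤ _)) (ha j)
          rwa [res_res, res_smul, res_res] at this
    refine ⟨τ, fun i V' hV hi b hb ↦ ?_⟩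
    refine eq_of_locally_eq N (U := fun j ↦ V' ⊓ W j) (fun j ↦ inf_le_left) (hc V') _ _ fun j ↦ ?_
    rw [res_res, ← res_res N (inf_le_left : V ⊓ W j ≤ V)
      (le_inf (inf_le_left.trans hV) inf_le_right : V' ⊓ W j ≤ V ⊓ W j), hτ j, res_smul, res_res,
      res_smul, res_res]
    refine key j i _ (inf_le_left.trans hV) _ _ _ _ ?_ ?_
    · have := congrArg (res M (le_inf (inf_le_left.trans hV) inf_le_right : V' ⊓ W j ≤ V ⊓ W j)) (ha j)
      rwa [res_res, res_smul, res_res] at this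
    · have := congrArg (res M (inf_le_left : V' ⊓ W j ≤ V')) hb
      rwa [res_res, res_smul, res_res] at this
  choose f hf using hex
  have hadd : ∀ V m m', f V (m + m') = f V m + f V m' := by
    intro V m m'
    refine huniq V _ _ _ (hf V _) fun i V' hV hi a ha ↦ ?_
    obtain ⟨b, hb, -⟩ := (hg i).exists_eq hi (res M hV m)
    obtain ⟨c, hc', -⟩ := (hg i).exists_eq hi (res M hV m')
    rw [map_add, hf V m i V' hV hi b hb, hf V m' i V' hV hi c hc', ← add_smul]
    congr 1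
    refine (hg i).injective hi ?_
    rw [← ha, map_add, hb, hc', add_smul]
  have hsmul : ∀ V (r : Γ(X, V)) m, f V (r • m) = r • f V m := by
    intro V r m
    refine huniq V _ _ _ (hf V _) fun i V' hV hi a ha ↦ ?_
    obtain ⟨b, hb, -⟩ := (hg i).exists_eq hi (res M hV m)
    rw [res_smul, hf V m i V' hV hi b hb, smul_smul]
    congr 1
    refine (hg i).injective hi ?_
    rw [← ha, res_smul, hb, smul_smul]
  have hnat : ∀ (V V' : X.Opens) (hV : V' ≤ V) m, f V' (res M hV m) = res N hV (f V m) := by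
    intro V V' hV m
    refine huniq V' _ _ _ (hf V' _) fun i V'' hV' hi a ha ↦ ?_
    rw [res_res] at ha ⊢
    exact hf V m i V'' (hV'.trans hV) hi a ha
  let φ : M ⟶ N :=
    ⟨PresheafOfModules.homMk
      { app := fun V => AddCommGrpCat.ofHom (show Γ(M, V.unop) →+ Γ(N, V.unop) from
          AddMonoidHom.mk' (f V.unop) (hadd V.unop))
        naturality := fun {V V'} i => by
          ext a
          exact hnat V.unop V'.unop i.unop.le a }
      (fun V r a => hsmul V.unop r a)⟩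
  have hφ : ∀ (i : ι) (V : X.Opens) (hi : V ≤ W i) (a : Γ(X, V)),
      φ.app V (a • res M hi (g i)) = a • res N hi (h i) := fun i V hi a ↦
    (res_self N le_rfl _).symm.trans (hf V _ i V le_rfl hi a (res_self M le_rfl _))
  haveI : IsIso φ := LFFrame.isIso_of_locally_bijective φ fun x ↦ by
    obtain ⟨i, hi⟩ := Opens.mem_iSup.mp (hcov (trivial : x ∈ (⊤ : X.Opens)))
    refine ⟨W i, hi, fun V hV ↦ ?_⟩
    refine (Function.Bijective.of_comp_iff _ (hg i V hV)).mp ?_
    rw [show φ.app V ∘ sm (g i) hV = sm (h i) hV from funext fun a ↦ hφ i V hV a]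
    exact hh i V hV
  exact ⟨asIso φ, hφ⟩

/-- Transition functions of powers. -/
lemma res_pw_eq {L : X.Modules} {U U' V : X.Opens} {e : Γ(L, U)} {e' : Γ(L, U')}
    (h : V ≤ U) (h' : V ≤ U') {u : Γ(X, V)} (hu : res L h' e' = u • res L h e) (k : ℕ) :
    res _ h' (pw L e' k) = u ^ k • res _ h (pw L e k) := by
  rw [res_pw, res_pw, hu, pw_smul]

theorem exists_iso_tensorPow_mul {L : X.Modules} (hL : PicF.IsInvertible L) (n m : ℕ) :
    ∃ φ : CohB1.tensorPow (CohB1.tensorPow L n) m ≅ CohB1.tensorPow L (n * m),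
      ∀ (U : X.Opens) (e : Γ(L, U)), IsGen L U e → ∀ (V : X.Opens) (h : V ≤ U) (a : Γ(X, V)),
        φ.hom.app V (a • res _ h (pw _ (pw L e n) m)) = a • res _ h (pw L e (n * m)) := by
  let ι := {p : Σ U : X.Opens, Γ(L, U) // IsGen L p.1 p.2}
  obtain ⟨φ, hφ⟩ := exists_iso_of_gen (M := CohB1.tensorPow (CohB1.tensorPow L n) m)
    (N := CohB1.tensorPow L (n * m)) (fun i : ι ↦ i.1.1) (by
      intro x _
      obtain ⟨U, e, hxU, he⟩ := exists_isGen hL x
      exact Opens.mem_iSup.mpr ⟨(⟨⟨U, e⟩, he⟩ : ι), hxU⟩)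
    (fun i ↦ pw _ (pw L i.1.2 n) m) (fun i ↦ isGen_pw (isGen_pw i.2 n) m)
    (fun i ↦ pw L i.1.2 (n * m)) (fun i ↦ isGen_pw i.2 _) (by
      rintro ⟨⟨U, e⟩, he⟩ ⟨⟨U', e'⟩, he'⟩ V hi hj w hw
      obtain ⟨u, hu, -⟩ := he.exists_eq hi (res L hj e')
      dsimp only at *
      have hn := res_pw_eq hi hj hu n
      rw [res_pw_eq hi hj hn m, ← pow_mul] at hw
      have hwu := (isGen_pw (isGen_pw he n) m).injective hi hw
      rw [res_pw_eq hi hj hu (n * m), hwu])
  exact ⟨φ, fun U e he ↦ hφ ⟨⟨U, e⟩, he⟩⟩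

lemma exists_tensorPow_succ_of_mul {L : X.Modules} (hL : PicF.IsInvertible L) {n m k : ℕ}
    (hk : n * m = k) (s : Coh.structureModule X ⟶ CohB1.tensorPow (CohB1.tensorPow L n) m) :
    ∃ t : Coh.structureModule X ⟶ CohB1.tensorPow L k,
      CohB1.genLocus _ t = CohB1.genLocus _ s := by
  subst hk
  obtain ⟨φ, -⟩ := exists_iso_tensorPow_mul hL n m
  exact ⟨s ≫ φ.hom, genLocus_comp_iso s φ⟩

theorem isAmple_tensorPow_iff [CompactSpace X] {L : X.Modules} (hL : PicF.IsInvertible L) {n : ℕ}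
    (hn : 0 < n) : CohB1.IsAmple (CohB1.tensorPow L n) ↔ CohB1.IsAmple L := by
  refine ⟨fun h ↦ ⟨hL, inferInstance, fun x ↦ ?_⟩,
    fun h ↦ ⟨isInvertible_tensorPow hL n, inferInstance, fun x ↦ ?_⟩⟩
  · obtain ⟨m, s, hxs, haff⟩ := h.2.2 x
    obtain ⟨t, ht⟩ := exists_tensorPow_succ_of_mul hL rfl s
    obtain ⟨j, t', ht'⟩ := Props.GenExt.exists_succ (Nat.mul_pos hn m.succ_pos) t
    exact ⟨j, t', by rw [ht', ht]; exact ⟨hxs, haff⟩⟩
  · obtain ⟨m, s, hxs, haff⟩ := h.2.2 x
    obtain ⟨t, ht⟩ := exists_pow hL s n (n * (m + 1)) (Nat.mul_comm _ _)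
    obtain ⟨φ, -⟩ := exists_iso_tensorPow_mul hL n (m + 1)
    exact ⟨m, t ≫ φ.inv, by
      rw [show t ≫ φ.inv = t ≫ φ.symm.hom from rfl, genLocus_comp_iso, genLocus_pow hL s hn t ht]
      exact ⟨hxs, haff⟩⟩

end Groth.Agent.AmpleLib

end
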