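import Groth.Agent.AmpleLib.Rel
import Groth.Agent.AmpleLib.GenIso
import Groth.Agent.QAffLib.Basic

/-!
# Ampleness and pullback along quasi-affine morphisms
-/

set_option autoImplicit false
set_option linter.style.haveILetI false
universe u

open CategoryTheory Limits AlgebraicGeometry Opposite TopologicalSpace

noncomputable section

namespace Groth.Agent.AmpleLib

open Groth.Agent.QCoh Groth.Agent.Props.GenLocus Groth.Agent.Props.GenTensor Groth.Agent.Props.GenProd

variable {X X' Y : Scheme.{u}} {L : X.Modules}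

lemma isQuasiAffine_of_iso {A B : Scheme.{u}} (e : A ≅ B) [hB : B.IsQuasiAffine] : A.IsQuasiAffine := by
  haveI : CompactSpace A := e.hom.homeomorph.symm.compactSpace
  exact Scheme.IsQuasiAffine.of_isImmersion e.hom

lemma isQuasiAffine_of_isAffineOpen {W : X.Opens} (hW : IsAffineOpen W) :
    W.toScheme.IsQuasiAffine :=
  haveI : IsAffine W.toScheme := hW
  inferInstance

/-- An open of a scheme is the image of itself. -/
lemma isQuasiAffine_image {O : X.Opens} (P : O.toScheme.Opens)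
    (h : (O.ι ''ᵁ P).toScheme.IsQuasiAffine) : P.toScheme.IsQuasiAffine :=
  isQuasiAffine_of_iso (O.ι.isoImage P) (hB := h)

/-- Pullback of an ample module along a quasi-affine morphism. -/
theorem isAmple_pullback_of_qaMor (g : X' ⟶ X) (hg : ConsPairLib.qaMor g)
    (h : CohB1.IsAmple L) : CohB1.IsAmple ((Scheme.Modules.pullback g).obj L) := by
  haveI := h.2.1
  haveI := isSeparated_of_isAmple h
  haveI := hg.1
  haveI := QAffLib.isSeparated_of_qaMor g hg
  haveI : CompactSpace X' := QuasiCompact.compactSpace_of_compactSpace g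
  haveI : QuasiSeparatedSpace X' := quasiSeparatedSpace_of_quasiSeparated g
  refine ⟨PicCl.isInvertible_pullback g h.1, inferInstance, fun x ↦ ?_⟩
  obtain ⟨n, s, hxs, haff⟩ := h.2.2 (g x)
  obtain ⟨s', hs', -⟩ := Props.GenPull.exists_pull g h.1 s
  let U := CohB1.genLocus _ s'
  haveI : U.toScheme.IsQuasiAffine := show (CohB1.genLocus _ s').toScheme.IsQuasiAffine from
    hs' ▸ hg.2 _ haff
  obtain ⟨_, ⟨_, ⟨t, ht, rfl⟩, rfl⟩, hxt, -⟩ :=
    (Scheme.IsQuasiAffine.isBasis_basicOpen U.toScheme).exists_subset_of_mem_open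
      (Set.mem_univ (⟨x, show x ∈ CohB1.genLocus _ s' by rw [hs']; exact hxs⟩ :
        U.toScheme)) isOpen_univ
  obtain ⟨m, t', ht'⟩ := Props.GenExt.exists_basicOpen (PicCl.isInvertible_pullback g h.1)
    (Nat.succ_pos n) s' (U.topIso.hom t)
  have himg : U.ι ''ᵁ (U.toScheme.basicOpen t) = X'.basicOpen (U.topIso.hom t) := by
    rw [Scheme.image_basicOpen]
    simp only [Scheme.Opens.ι_appIso, Scheme.Opens.topIso]
    exact (Scheme.basicOpen_res_eq _ _ _).symm
  refine ⟨m, t', ?_⟩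
  rw [ht', ← himg]
  exact ⟨⟨_, hxt, rfl⟩, ht.image_of_isOpenImmersion _⟩

theorem ampleOn_pullback_of_resLE (hL : PicF.IsInvertible L) (h : X' ⟶ X) {O : X.Opens}
    {O' : X'.Opens} (hle : O' ≤ h ⁻¹ᵁ O) (hO : AmpleOn L O)
    (H : ∀ M : O.toScheme.Modules, CohB1.IsAmple M →
      CohB1.IsAmple ((Scheme.Modules.pullback (h.resLE O O' hle)).obj M)) :
    AmpleOn ((Scheme.Modules.pullback h).obj L) O' := by
  rw [← isAmple_restrict_iff hL] at hO
  rw [← isAmple_restrict_iff (PicCl.isInvertible_pullback h hL)]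
  refine isAmple_of_iso ?_ (H _ hO)
  exact ((Scheme.Modules.pullback (h.resLE O O' hle)).mapIso
      ((Scheme.Modules.restrictFunctorIsoPullback O.ι).app L)) ≪≫
    ((Scheme.Modules.pullbackComp (h.resLE O O' hle) O.ι).app L) ≪≫
    ((Scheme.Modules.pullbackCongr (h.resLE_comp_ι hle)).app L) ≪≫
    ((Scheme.Modules.pullbackComp O'.ι h).app L).symm ≪≫
    ((Scheme.Modules.restrictFunctorIsoPullback O'.ι).app _).symm

/-- Pullback along a map quasi-affine from `O'` to `O`. -/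
theorem ampleOn_pullback_of_qa (hL : PicF.IsInvertible L) (h : X' ⟶ X) {O : X.Opens}
    {O' : X'.Opens} (hle : O' ≤ h ⁻¹ᵁ O) (hO : AmpleOn L O)
    (hqa : ∀ W : X.Opens, IsAffineOpen W → W ≤ O → (h ⁻¹ᵁ W ⊓ O').toScheme.IsQuasiAffine) :
    AmpleOn ((Scheme.Modules.pullback h).obj L) O' := by
  refine ampleOn_pullback_of_resLE hL h hle hO fun M hM ↦ isAmple_pullback_of_qaMor _ ?_ hM
  have key : ∀ W : O.toScheme.Opens, IsAffineOpen W →
      ((h.resLE O O' hle) ⁻¹ᵁ W).toScheme.IsQuasiAffine := by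
    intro W hW
    refine isQuasiAffine_image _ ?_
    have e : O'.ι ''ᵁ ((h.resLE O O' hle) ⁻¹ᵁ W) = h ⁻¹ᵁ (O.ι ''ᵁ W) ⊓ O' := by
      conv_lhs => rw [← O.ι.preimage_image_eq W, ← Scheme.Hom.comp_preimage, h.resLE_comp_ι,
        Scheme.Hom.comp_preimage, Scheme.Hom.image_preimage_eq_opensRange_inf,
        Scheme.Opens.opensRange_ι, inf_comm]
    rw [e]
    exact hqa _ (hW.image_of_isOpenImmersion _) (O.ι_image_le W)
  exact ⟨(quasiCompact_iff_forall_isAffineOpen).mpr fun W hW ↦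
    isCompact_iff_compactSpace.mpr (key W hW).toCompactSpace, key⟩

theorem ampleOn_pullback_of_isInducing (hL : PicF.IsInvertible L) (h : X' ⟶ X) {O : X.Opens}
    {O' : X'.Opens} (hle : O' ≤ h ⁻¹ᵁ O) (hO : AmpleOn L O) (hc : IsCompact (O' : Set X'))
    (hh : Topology.IsInducing h) : AmpleOn ((Scheme.Modules.pullback h).obj L) O' := by
  refine ampleOn_pullback_of_resLE hL h hle hO fun M hM ↦ ?_
  haveI : CompactSpace O'.toScheme := isCompact_iff_compactSpace.mp hc
  refine isAmple_pullback_of_isInducing _ ?_ hM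
  refine .of_comp (h.resLE O O' hle).continuous O.ι.continuous ?_
  rw [← TopCat.coe_comp, ← Scheme.Hom.comp_base, h.resLE_comp_ι, Scheme.Hom.comp_base,
    TopCat.coe_comp]
  exact hh.comp O'.ι.isOpenEmbedding.isInducing

theorem ampleOn_of_isGen {W : X.Opens} (hW : IsAffineOpen W) {e : Γ(L, W)} (he : IsGen L W e) :
    AmpleOn L W := by
  refine ⟨hW.isCompact, fun x hx ↦ ⟨0, pw L e 1, ?_⟩⟩
  have : locus (pw L e 1) = W :=
    le_antisymm (locus_le _) (le_locus le_rfl (by rw [res_self]; exact isGen_pw he 1))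
  rw [this]
  exact ⟨hx, hW⟩

theorem isAmple_restrict_restrict_iff (hL : PicF.IsInvertible L) (O : X.Opens)
    (P : O.toScheme.Opens) :
    CohB1.IsAmple ((L.restrict O.ι).restrict P.ι) ↔ AmpleOn L (O.ι ''ᵁ P) := by
  have e : (L.restrict O.ι).restrict P.ι ≅ (Scheme.Modules.pullback (P.ι ≫ O.ι)).obj L :=
    ((Scheme.Modules.restrictFunctorIsoPullback P.ι).app _) ≪≫
      ((Scheme.Modules.pullback P.ι).mapIso
        ((Scheme.Modules.restrictFunctorIsoPullback O.ι).app L)) ≪≫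
      ((Scheme.Modules.pullbackComp P.ι O.ι).app L)
  rw [isAmple_iff_of_iso e, isAmple_pullback_openImmersion_iff hL, Scheme.Hom.opensRange_comp,
    Scheme.Opens.opensRange_ι]

theorem isRelAmple_tensorPow_iff (f : X ⟶ Y) (hL : PicF.IsInvertible L) {n : ℕ} (hn : 0 < n) :
    RelAmple.IsRelAmple f (CohB1.tensorPow L n) ↔ RelAmple.IsRelAmple f L := by
  rw [isRelAmple_iff, isRelAmple_iff]
  constructor
  · rintro ⟨hf, -, h⟩
    refine ⟨hf, hL, fun V ↦ ⟨(h V).1, fun x hx ↦ ?_⟩⟩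
    obtain ⟨m, σ, hxσ, haff⟩ := (h V).2 x hx
    obtain ⟨φ, -⟩ := exists_iso_tensorPow_mul hL n (m + 1)
    obtain ⟨j, hj⟩ : ∃ j, n * (m + 1) = j + 1 := ⟨n * (m + 1) - 1,
      (Nat.succ_pred_eq_of_pos (Nat.mul_pos hn m.succ_pos)).symm⟩
    refine ⟨j, hj ▸ φ.hom.app _ σ, ?_⟩
    have e : locus (φ.hom.app _ σ) = locus σ := locus_app_iso φ σ
    generalize φ.hom.app _ σ = τ at e ⊢
    generalize n * (m + 1) = N at hj τ
    subst hj
    rw [e]
    exact ⟨hxσ, haff⟩
  · rintro ⟨hf, -, h⟩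
    refine ⟨hf, isInvertible_tensorPow hL n, fun V ↦ ⟨(h V).1, fun x hx ↦ ?_⟩⟩
    obtain ⟨m, σ, hxσ, haff⟩ := (h V).2 x hx
    obtain ⟨φ, -⟩ := exists_iso_tensorPow_mul hL n (m + 1)
    obtain ⟨τ, hτ⟩ := exists_pow_section hL σ hn (n * (m + 1)) (Nat.mul_comm _ _)
    exact ⟨m, φ.inv.app _ τ, by
      rw [show φ.inv.app _ τ = φ.symm.hom.app _ τ from rfl, locus_app_iso, hτ]
      exact ⟨hxσ, haff⟩⟩

end Groth.Agent.AmpleLib

end
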