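import Groth.Agent.AmpleLib.GenIso
import Groth.Agent.KoszTwLib.Tensor
import Groth.Agent.Props.AmpleCoeff
import Groth.Prelude.Def_Curv2

/-!
# Extension of sections of quasi-coherent modules from `X_s` after twisting, global generation
-/

set_option autoImplicit false
set_option linter.style.haveILetI false
universe u

open CategoryTheory Limits AlgebraicGeometry Opposite TopologicalSpace

noncomputable section

namespace Groth.Agent.AmpleLib

open Groth.Agent.QCoh Groth.Agent.Props.GenLocus Groth.Agent.Props.GenTensor Groth.Agent.Props.GenProd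

variable {X : Scheme.{u}} {L : X.Modules}

/-- Tensoring with a generator is bijective on sections. -/
theorem tmul_gen_bijective {N : X.Modules} {U : X.Opens} {e : Γ(N, U)} (he : IsGen N U e)
    (M : X.Modules) {V : X.Opens} (h : V ≤ U) :
    Function.Bijective fun m : Γ(M, V) ↦ tmul m (res N h e) := by
  have hl : LFFrame.IsFrame N U ![e] := by
    rw [show (![e] : Fin 1 → Γ(N, U)) = fun _ ↦ e from funext fun i ↦ by rw [Subsingleton.elim i 0]; rfl]
    exact (isGen_iff_isFrame e).mp he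
  exact KoszTwLib.tmul_bijective hl M h

lemma tmul_add_left {M N : X.Modules} {V : X.Opens} (m m' : Γ(M, V)) (n : Γ(N, V)) :
    tmul (m + m') n = tmul m n + tmul m' n := by
  rw [tmul, tmul, tmul, TensorProduct.add_tmul]
  exact map_add ((η M N).app (op V)).hom _ _

/-- A finite affine frame cover of a compact open. -/
theorem exists_frame_cover_on (hL : PicF.IsInvertible L) {O : X.Opens} (hc : IsCompact (O : Set X)) :
    ∃ (n : ℕ) (W : Fin n → X.Opens) (e : ∀ i, Γ(L, W i)),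
      (∀ i, IsAffineOpen (W i)) ∧ (∀ i, W i ≤ O) ∧ (∀ i, IsGen L (W i) (e i)) ∧ O ≤ iSup W := by
  classical
  have key : ∀ x : O, ∃ (W : X.Opens) (e : Γ(L, W)), x.1 ∈ W ∧ IsAffineOpen W ∧ W ≤ O ∧ IsGen L W e := by
    intro x
    obtain ⟨U, e, hxU, he⟩ := exists_isGen hL x.1
    obtain ⟨W, hW, hxW, hWU⟩ :=
      exists_isAffineOpen_mem_and_subset (X := X) (x := x.1) (U := U ⊓ O) ⟨hxU, x.2⟩
    have h1 : W ≤ U := fun y hy ↦ (hWU hy).1
    exact ⟨W, res L h1 e, hxW, hW, fun y hy ↦ (hWU hy).2, he.restrict _⟩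
  choose W₀ e₀ hxW₀ hW₀ hWO₀ he₀ using key
  obtain ⟨F, hF⟩ := hc.elim_finite_subcover (fun x : O => (W₀ x : Set X))
    (fun x => (W₀ x).2) fun x hx => Set.mem_iUnion.mpr ⟨⟨x, hx⟩, hxW₀ _⟩
  refine ⟨F.card, fun i => W₀ (F.equivFin.symm i), fun i => e₀ _, fun i => hW₀ _, fun i => hWO₀ _,
    fun i => he₀ _, ?_⟩
  intro x hx
  obtain ⟨y, hy, hxy⟩ := Set.mem_iUnion₂.mp (hF hx)
  refine Opens.mem_iSup.mpr ⟨F.equivFin ⟨y, hy⟩, ?_⟩
  simp only [Equiv.symm_apply_apply]
  exact hxy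

/-- Extension of a section on `X_s` after twisting by powers of `L`. -/
theorem exists_twist_on {F : X.Modules} (hF : Coh.IsQCoh F) (hL : PicF.IsInvertible L) {O : X.Opens}
    (hc : IsCompact (O : Set X)) (hqs : IsQuasiSeparated (O : Set X)) {k : ℕ}
    (s : Γ(CohB1.tensorPow L k, O)) {U : X.Opens} (hU : U = locus s) (hUO : U ≤ O) {e : Γ(L, U)} (he : IsGen L U e) (σ : Γ(F, U))
    (l : ℕ) :
    ∃ N : ℕ, ∀ M, N ≤ M → ∃ ρ : Γ(CohB1.tensorMod F (CohB1.tensorPow L (l + k * M)), O),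
      res _ hUO ρ =
        tmul (co k s hUO he ^ M • σ) (pw L e (l + k * M)) := by
  classical
  haveI : F.IsQuasicoherent := hF
  obtain ⟨n, W, eW, hW, hWO, heW, hcov⟩ := exists_frame_cover_on hL hc
  have hv : ∀ i, ∃ v : Γ(X, U ⊓ W i),
      res L (inf_le_left : U ⊓ W i ≤ U) e = v • res L (inf_le_right : U ⊓ W i ≤ W i) (eW i) :=
    fun i ↦ let ⟨v, hv, _⟩ := (heW i).exists_eq inf_le_right (res L inf_le_left e); ⟨v, hv⟩
  choose v hv using hv
  have hu : ∀ i j, ∃ u : Γ(X, W i ⊓ W j),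
      res L (inf_le_right : W i ⊓ W j ≤ W j) (eW j) = u • res L (inf_le_left : W i ⊓ W j ≤ W i) (eW i) :=
    fun i j ↦ let ⟨u, hu, _⟩ := (heW i).exists_eq inf_le_left (res L inf_le_right (eW j)); ⟨u, hu⟩
  choose u hu using hu
  let c : ∀ i, Γ(X, W i) := fun i ↦ co k s (hWO i) (heW i)
  let cU := co k s hUO he
  have hUW : ∀ i, U ⊓ W i = X.basicOpen (c i) := fun i ↦ hU ▸ locus_inf_eq (hWO i) (heW i) s
  have hcU : ∀ (i) (V : X.Opens) (hVU : V ≤ U) (hVW : V ≤ W i),
      rres hVW (c i) = rres (le_inf hVU hVW) (v i) ^ k * rres hVU cU := by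
    intro i V hVU hVW
    simp only [c, cU, co_res]
    refine Props.GenExt.co_of_eq_smul _ _ _ _ ?_
    have := congrArg (res L (le_inf hVU hVW)) (hv i)
    rwa [res_smul, res_res, res_res] at this
  have hcc : ∀ (i j) (V : X.Opens) (hi : V ≤ W i) (hj : V ≤ W j),
      rres hi (c i) = rres (le_inf hi hj) (u i j) ^ k * rres hj (c j) := by
    intro i j V hi hj
    simp only [c, co_res]
    refine Props.GenExt.co_of_eq_smul _ _ _ _ ?_
    have := congrArg (res L (le_inf hi hj)) (hu i j)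
    rwa [res_smul, res_res, res_res] at this
  have hvu : ∀ (i j) (V : X.Opens) (hVU : V ≤ U) (hi : V ≤ W i) (hj : V ≤ W j),
      rres (le_inf hVU hi) (v i) = rres (le_inf hVU hj) (v j) * rres (le_inf hi hj) (u i j) := by
    intro i j V hVU hi hj
    refine (heW i).injective hi ?_
    have h1 := congrArg (res L (le_inf hVU hi)) (hv i)
    have h2 := congrArg (res L (le_inf hVU hj)) (hv j)
    have h3 := congrArg (res L (le_inf hi hj)) (hu i j)
    rw [res_smul, res_res, res_res] at h1 h2 h3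
    rw [← h1, h2, h3, smul_smul]
  have hloc : ∀ i, ∃ (a : ℕ) (m : Γ(F, W i)), res F (inf_le_right : U ⊓ W i ≤ W i) m =
      (rres (inf_le_right : U ⊓ W i ≤ W i) (c i) ^ a * v i ^ l) • res F (inf_le_left : U ⊓ W i ≤ U) σ := by
    intro i
    have key : ∀ (O : X.Opens) (hO : O = X.basicOpen (c i)) (hle : O ≤ W i) (z : Γ(F, O)),
        ∃ (a : ℕ) (m : Γ(F, W i)), res F hle m = rres hle (c i) ^ a • z := by
      intro O hO hle z
      subst hO
      obtain ⟨a, m, hm⟩ := (isLocalizingAt F (hW i) (c i)).surj z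
      exact ⟨a, m, by simpa [map_pow] using hm⟩
    obtain ⟨a, m, hm⟩ := key _ (hUW i) inf_le_right (v i ^ l • res F inf_le_left σ)
    exact ⟨a, m, by rw [hm, smul_smul]⟩
  choose a₀ m₀ hm₀ using hloc
  obtain ⟨a, ha⟩ : ∃ a, ∀ i, a₀ i ≤ a := Finite.exists_le a₀
  let m : ∀ i, Γ(F, W i) := fun i ↦ c i ^ (a - a₀ i) • m₀ i
  have hm : ∀ i, res F (inf_le_right : U ⊓ W i ≤ W i) (m i) =
      (rres (inf_le_right : U ⊓ W i ≤ W i) (c i) ^ a * v i ^ l) • res F (inf_le_left : U ⊓ W i ≤ U) σ := by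
    intro i
    simp only [m, res_smul, map_pow, hm₀ i, smul_smul]
    rw [← mul_assoc, ← pow_add, Nat.sub_add_cancel (ha i)]
  have hz : ∀ i j, ∃ b : ℕ, rres (inf_le_left : W i ⊓ W j ≤ W i) (c i) ^ b •
      (res F (inf_le_left : W i ⊓ W j ≤ W i) (m i) -
        u i j ^ (l + k * a) • res F (inf_le_right : W i ⊓ W j ≤ W j) (m j)) = 0 := by
    intro i j
    have hc : IsCompact ((W i ⊓ W j : X.Opens) : Set X) :=
      hqs _ _ (hWO i) (W i).2 (hW i).isCompact (hWO j) (W j).2 (hW j).isCompact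
    refine exists_pow_smul_eq_zero F hc _ _ ?_
    have hle : X.basicOpen (rres (inf_le_left : W i ⊓ W j ≤ W i) (c i)) ≤ U ⊓ (W i ⊓ W j) := by
      refine le_inf ?_ (X.basicOpen_le _)
      rw [Scheme.basicOpen_res, ← hUW i]
      exact inf_le_right.trans inf_le_left
    suffices h0 : res F (inf_le_right : U ⊓ (W i ⊓ W j) ≤ _)
        (res F (inf_le_left : W i ⊓ W j ≤ W i) (m i) -
          u i j ^ (l + k * a) • res F (inf_le_right : W i ⊓ W j ≤ W j) (m j)) = 0 by
      have := congrArg (res F hle) h0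
      rw [res_res, map_zero] at this
      exact this
    have e1 := congrArg (res F (inf_le_inf_left U inf_le_left : U ⊓ (W i ⊓ W j) ≤ U ⊓ W i)) (hm i)
    have e2 := congrArg (res F (inf_le_inf_left U inf_le_right : U ⊓ (W i ⊓ W j) ≤ U ⊓ W j)) (hm j)
    simp only [res_smul, res_res, map_mul, map_pow, rres_rres] at e1 e2
    simp only [map_sub, res_smul, res_res, map_pow, e1, e2, smul_smul, ← sub_smul]
    rw [hcc i j _ _ (inf_le_right.trans inf_le_right), hvu i j _ inf_le_left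
      (inf_le_right.trans inf_le_left) (inf_le_right.trans inf_le_right)]
    convert zero_smul Γ(X, U ⊓ (W i ⊓ W j)) _
    ring
  choose b hb using hz
  obtain ⟨B, hB⟩ : ∃ B, ∀ p : Fin n × Fin n, b p.1 p.2 ≤ B := Finite.exists_le _
  refine ⟨a + B, fun M hM ↦ ?_⟩
  obtain ⟨ρ, hρ⟩ := exists_glue (CohB1.tensorMod F (CohB1.tensorPow L (l + k * M))) (U := W) (V := O) hWO hcov
    (fun i ↦ tmul (c i ^ (M - a) • m i) (pw L (eW i) (l + k * M))) fun i j ↦ by
      simp only [res_tmul, res_smul, map_pow, res_pw, hu i j, pw_smul, tmul_smul_right]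
      rw [← tmul_smul_left]
      congr 1
      obtain ⟨d, hd⟩ : ∃ d, M - a = d + b i j := ⟨M - a - b i j, by have := hB (i, j); dsimp only at this; omega⟩
      have h1 := congrArg (rres (inf_le_left : W i ⊓ W j ≤ W i) (c i) ^ d • ·) (hb i j)
      simp only [smul_smul, ← pow_add, smul_sub, smul_zero, ← hd, sub_eq_zero] at h1
      rw [h1, smul_smul]
      congr 1
      rw [hcc i j _ inf_le_left inf_le_right, rres_self, show l + k * M = l + k * a + k * (M - a) by
        rw [add_assoc, ← mul_add, Nat.add_sub_cancel' (by omega : a ≤ M)], hd]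
      ring
  refine ⟨ρ, eq_of_locally_eq (CohB1.tensorMod F (CohB1.tensorPow L (l + k * M))) (U := fun i ↦ U ⊓ W i) (fun i ↦ inf_le_left) (fun x hx ↦ ?_) _ _ fun i ↦ ?_⟩
  · obtain ⟨i, hi⟩ := Opens.mem_iSup.mp (hcov (hUO hx))
    exact Opens.mem_iSup.mpr ⟨i, hx, hi⟩
  · rw [res_res, ← res_res (CohB1.tensorMod F (CohB1.tensorPow L (l + k * M))) (hWO i) (inf_le_right : U ⊓ W i ≤ W i), hρ i]
    simp only [res_tmul, res_smul, map_pow, res_pw, hm i, hv i, pw_smul, tmul_smul_right, smul_smul]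
    rw [← tmul_smul_left]
    congr 1
    rw [smul_smul, ← mul_assoc, ← pow_add, Nat.sub_add_cancel (by omega : a ≤ M)]
    congr 1
    rw [hcU i _ inf_le_left inf_le_right, rres_self]
    ring

/-- Extension of a section on `X_s` after twisting, for a global section `s`. -/
theorem exists_twist {F : X.Modules} (hF : Coh.IsQCoh F) [CompactSpace X] [QuasiSeparatedSpace X]
    (hL : PicF.IsInvertible L) {k : ℕ} (s : Coh.structureModule X ⟶ CohB1.tensorPow L k)
    {U : X.Opens} (hU : U = CohB1.genLocus _ s) {e : Γ(L, U)} (he : IsGen L U e) (σ : Γ(F, U))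
    (l : ℕ) :
    ∃ N : ℕ, ∀ M, N ≤ M → ∃ ρ : Γ(CohB1.tensorMod F (CohB1.tensorPow L (l + k * M)), ⊤),
      res _ le_top ρ =
        tmul (co k (sec s ⊤) le_top he ^ M • σ) (pw L e (l + k * M)) :=
  exists_twist_on hF hL isCompact_univ (IsQuasiSeparated.of_quasiSeparatedSpace _) (sec s ⊤)
    (hU.trans (genLocus_eq_locus s)) le_top he σ l

/-- Global sections generating locally imply global generation. -/
theorem isGloballyGenerated_of_local {G : X.Modules}
    (h : ∀ (V : X.Opens) (m : Γ(G, V)) (x : X), x ∈ V → ∃ (W : X.Opens) (hW : W ≤ V), x ∈ W ∧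
      res G hW m ∈ Submodule.span Γ(X, W) (Set.range fun σ : Γ(G, ⊤) ↦ res G le_top σ)) :
    Curv2.IsGloballyGenerated G := by
  let p : (SheafOfModules.free (R := X.ringCatSheaf) Γ(G, ⊤) : X.Modules) ⟶ G :=
    Sigma.desc fun σ : Γ(G, ⊤) ↦ homOfSec σ
  refine ⟨Γ(G, ⊤), p, ⟨fun {H : X.Modules} (ψ₁ ψ₂ : G ⟶ H) hψ ↦ Scheme.Modules.hom_ext _ _ fun V ↦ ?_⟩⟩
  have hgen : ∀ σ : Γ(G, ⊤), homOfSec σ ≫ ψ₁ = homOfSec σ ≫ ψ₂ := fun σ ↦ by
    have := congrArg (Sigma.ι (fun _ : Γ(G, ⊤) ↦ SheafOfModules.unit X.ringCatSheaf) σ ≫ ·) hψ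
    replace this := (Category.assoc _ p ψ₁).trans (this.trans (Category.assoc _ p ψ₂).symm)
    erw [Sigma.ι_desc] at this
    exact this
  have hsec : ∀ (W : X.Opens) (σ : Γ(G, ⊤)),
      ψ₁.app W (res G le_top σ) = ψ₂.app W (res G le_top σ) := fun W σ ↦ by
    have := congrArg (fun χ : Coh.structureModule X ⟶ H ↦ χ.app W (one' W)) (hgen σ)
    simp only [Scheme.Modules.Hom.comp_app, ConcreteCategory.comp_apply] at this
    rw [← sec, sec_homOfSec] at this
    exact this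
  ext m
  choose W hW hxW hspan using fun x : V ↦ h V m x.1 x.2
  refine eq_of_locally_eq H (U := W) hW (fun x hx ↦ Opens.mem_iSup.mpr ⟨⟨x, hx⟩, hxW _⟩) _ _ fun x ↦ ?_
  rw [← app_res, ← app_res]
  refine Submodule.span_induction (p := fun z _ ↦ ψ₁.app (W x) z = ψ₂.app (W x) z) ?_ ?_ ?_ ?_
    (hspan x)
  · rintro _ ⟨σ, rfl⟩
    exact hsec _ σ
  · simp
  · intro z z' _ _ h1 h2
    simp [map_add, h1, h2]
  · intro r z _ h1
    simp [Scheme.Modules.Hom.app_smul, h1]

end Groth.Agent.AmpleLib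

end
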