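import Groth.Agent.Props.GenPull

/-!
# Basic facts on ample invertible modules and their loci `X_s`
-/

set_option autoImplicit false
set_option linter.style.haveILetI false
universe u

open CategoryTheory Limits AlgebraicGeometry Opposite TopologicalSpace

noncomputable section

namespace Groth.Agent.AmpleLib

open Groth.Agent.QCoh Groth.Agent.Props.GenLocus Groth.Agent.Props.GenTensor Groth.Agent.Props.GenProd

variable {X : Scheme.{u}} {L : X.Modules}

theorem isInvertible_of_exists_isGen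
    (h : ∀ x : X, ∃ (U : X.Opens) (e : Γ(L, U)), x ∈ U ∧ IsGen L U e) : PicF.IsInvertible L := by
  intro x
  obtain ⟨U, e, hxU, he⟩ := h x
  exact ⟨U, hxU, ((isGen_iff_isFrame e).mp he).nonempty_restrict_iso⟩

theorem isInvertible_tensorPow (hL : PicF.IsInvertible L) (n : ℕ) :
    PicF.IsInvertible (CohB1.tensorPow L n) :=
  isInvertible_of_exists_isGen fun x ↦
    let ⟨U, e, hxU, he⟩ := exists_isGen hL x
    ⟨U, pw L e n, hxU, isGen_pw he n⟩

theorem isInvertible_tensorMod {M : X.Modules} (hL : PicF.IsInvertible L)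
    (hM : PicF.IsInvertible M) : PicF.IsInvertible (CohB1.tensorMod L M) :=
  isInvertible_of_exists_isGen fun x ↦
    let ⟨U, e, hxU, he⟩ := exists_isGen hL x
    let ⟨V, f, hxV, hf⟩ := exists_isGen hM x
    ⟨U ⊓ V, tmul (res L inf_le_left e) (res M inf_le_right f), ⟨hxU, hxV⟩,
      isGen_tmul (he.restrict _) (hf.restrict _)⟩

/-- Over an affine open on which `L` is trivial, `X_s` is affine. -/
theorem isAffineOpen_genLocus_inf {W : X.Opens} (hW : IsAffineOpen W) {e : Γ(L, W)}
    (he : IsGen L W e) (s : Coh.structureModule X ⟶ L) :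
    IsAffineOpen (CohB1.genLocus L s ⊓ W) := by
  obtain ⟨f, hf, -⟩ := he.exists_eq le_rfl (sec s W)
  rw [res_self] at hf
  exact genLocus_inf he s hf ▸ hW.basicOpen f

theorem isAffineHom_genLocus_ι (hL : PicF.IsInvertible L) (s : Coh.structureModule X ⟶ L) :
    IsAffineHom (CohB1.genLocus L s).ι := by
  refine isAffineHom_of_forall_exists_isAffineOpen _ fun x => ?_
  obtain ⟨U, e, hxU, he⟩ := exists_isGen hL x
  obtain ⟨W, hW, hxW, hWU⟩ := exists_isAffineOpen_mem_and_subset (X := X) (x := x) (U := U) hxU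
  refine ⟨W, hxW, hW, ?_⟩
  rw [← Scheme.Hom.isAffineOpen_iff_of_isOpenImmersion (CohB1.genLocus L s).ι,
    Scheme.Hom.image_preimage_eq_opensRange_inf, Scheme.Opens.opensRange_ι]
  exact isAffineOpen_genLocus_inf hW (he.restrict hWU) s

theorem isAffineOpen_inf_genLocus (hL : PicF.IsInvertible L) (s : Coh.structureModule X ⟶ L)
    {V : X.Opens} (hV : IsAffineOpen V) : IsAffineOpen (CohB1.genLocus L s ⊓ V) := by
  haveI := isAffineHom_genLocus_ι hL s
  have h := hV.preimage (CohB1.genLocus L s).ι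
  rw [← Scheme.Hom.isAffineOpen_iff_of_isOpenImmersion (CohB1.genLocus L s).ι,
    Scheme.Hom.image_preimage_eq_opensRange_inf, Scheme.Opens.opensRange_ι] at h
  exact h

theorem isAffineOpen_genLocus_of_le (hL : PicF.IsInvertible L) (s : Coh.structureModule X ⟶ L)
    {V : X.Opens} (hV : IsAffineOpen V) (h : CohB1.genLocus L s ≤ V) :
    IsAffineOpen (CohB1.genLocus L s) :=
  inf_eq_left.mpr h ▸ isAffineOpen_inf_genLocus hL s hV

/-- If the `X_s` form a basis of the topology then `L` is ample. -/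
theorem isAmple_of_isBasis (hL : PicF.IsInvertible L) [CompactSpace X]
    (h : Opens.IsBasis {U : X.Opens | ∃ (n : ℕ) (s : Coh.structureModule X ⟶ CohB1.tensorPow L (n + 1)),
      U = CohB1.genLocus _ s}) : CohB1.IsAmple L := by
  refine ⟨hL, inferInstance, fun x ↦ ?_⟩
  obtain ⟨V, hV, hxV, -⟩ := exists_isAffineOpen_mem_and_subset (X := X) (x := x) (U := ⊤) trivial
  obtain ⟨U, ⟨n, s, rfl⟩, hxU, hUV⟩ := (Opens.isBasis_iff_nbhd.mp h) hxV
  exact ⟨n, s, hxU, isAffineOpen_genLocus_of_le (isInvertible_tensorPow hL _) s hV hUV⟩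

end Groth.Agent.AmpleLib

end
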