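import Groth.Agent.AmpleLib.Basic
import Groth.Agent.QCoh.Qcqs
import Groth.Agent.ProjTwist.Invertible
import Groth.Prelude.Def_PicGrp

/-!
# Loci of local sections of invertible modules, extension of sections, isomorphism invariance
-/

set_option autoImplicit false
set_option linter.style.haveILetI false
universe u

open CategoryTheory Limits AlgebraicGeometry Opposite TopologicalSpace

noncomputable section

namespace Groth.Agent.AmpleLib

open Groth.Agent.QCoh Groth.Agent.Props.GenLocus Groth.Agent.Props.GenTensor Groth.Agent.Props.GenProd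

variable {X : Scheme.{u}} {L M : X.Modules}

/-- The locus in `O` where a section over `O` generates. -/
def locus {O : X.Opens} (σ : Γ(M, O)) : X.Opens :=
  sSup {W : X.Opens | ∃ h : W ≤ O, IsGen M W (res M h σ)}

lemma locus_le {O : X.Opens} (σ : Γ(M, O)) : locus σ ≤ O :=
  sSup_le fun _ hW ↦ hW.choose

lemma le_locus {O : X.Opens} {σ : Γ(M, O)} {W : X.Opens} (h : W ≤ O)
    (hg : IsGen M W (res M h σ)) : W ≤ locus σ :=
  le_sSup ⟨h, hg⟩

lemma mem_locus_iff {O : X.Opens} (σ : Γ(M, O)) (x : X) :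
    x ∈ locus σ ↔ ∃ (W : X.Opens) (h : W ≤ O), x ∈ W ∧ IsGen M W (res M h σ) := by
  refine ⟨fun hx ↦ ?_, fun ⟨W, h, hxW, hW⟩ ↦ le_locus h hW hxW⟩
  obtain ⟨W, ⟨h, hW⟩, hxW⟩ := Opens.mem_sSup.mp hx
  exact ⟨W, h, hxW, hW⟩

theorem isGen_locus {O : X.Opens} (σ : Γ(M, O)) :
    IsGen M (locus σ) (res M (locus_le σ) σ) := by
  refine IsGen.of_local fun x hx => ?_
  obtain ⟨W, h, hxW, hW⟩ := (mem_locus_iff σ x).mp hx
  exact ⟨W, le_locus h hW, hxW, by rwa [res_res]⟩

lemma locus_res {O O' : X.Opens} (h : O' ≤ O) (σ : Γ(M, O)) :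
    locus (res M h σ) = locus σ ⊓ O' := by
  refine le_antisymm (le_inf ?_ (locus_le _)) ?_
  · refine sSup_le fun W hW ↦ ?_
    obtain ⟨hW', hg⟩ := hW
    rw [res_res] at hg
    exact le_locus _ hg
  · refine le_locus inf_le_right ?_
    have := (isGen_locus σ).restrict (inf_le_left : locus σ ⊓ O' ≤ _)
    rw [res_res] at this ⊢
    exact this

lemma genLocus_eq_locus (s : Coh.structureModule X ⟶ M) :
    CohB1.genLocus M s = locus (sec s ⊤) := by
  refine le_antisymm (le_locus le_top ?_) (sSup_le fun W hW ↦ ?_)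
  · rw [sec_res]; exact isGen_genLocus s
  · obtain ⟨h, hg⟩ := hW
    rw [sec_res] at hg
    exact le_genLocus hg

lemma genLocus_homOfSec (σ : Γ(M, ⊤)) : CohB1.genLocus M (homOfSec σ) = locus σ := by
  rw [genLocus_eq_locus, sec_homOfSec, res_self]

lemma locus_inf {O W : X.Opens} (h : W ≤ O) {e : Γ(M, W)} (he : IsGen M W e) (σ : Γ(M, O))
    {f : Γ(X, W)} (hf : res M h σ = f • e) : locus σ ⊓ W = X.basicOpen f := by
  refine le_antisymm ?_ (le_inf (le_locus ((X.basicOpen_le f).trans h) ?_) (X.basicOpen_le f))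
  · rintro x ⟨hx, hxW⟩
    have hg := (isGen_locus σ).restrict (inf_le_left : locus σ ⊓ W ≤ _)
    rw [res_res, ← res_res M h (inf_le_right : locus σ ⊓ W ≤ W), hf, res_smul] at hg
    obtain ⟨b, hb, -⟩ := hg.exists_eq le_rfl (res M (inf_le_right : locus σ ⊓ W ≤ W) e)
    rw [res_self, smul_smul] at hb
    have h1 : (1 : Γ(X, locus σ ⊓ W)) • res M (inf_le_right : _ ≤ W) e =
        (b * rres (inf_le_right : locus σ ⊓ W ≤ W) f) • res M inf_le_right e :=
      (one_smul _ _).trans hb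
    have hu := IsUnit.of_mul_eq_one_right b (he.injective _ h1).symm
    refine (X.mem_basicOpen f x hxW).mpr ?_
    have := hu.map (X.presheaf.germ (locus σ ⊓ W) x ⟨hx, hxW⟩).hom
    exact (X.presheaf.germ_res_apply (homOfLE (inf_le_right : locus σ ⊓ W ≤ W)) x ⟨hx, hxW⟩ f) ▸ this
  · have := (he.restrict (X.basicOpen_le f)).smul_unit
      (c := rres (X.basicOpen_le f) f) (RingedSpace.isUnit_res_basicOpen _ f)
    rwa [← res_smul, ← hf, res_res] at this

lemma locus_inf_eq {k : ℕ} {O W : X.Opens} (h : W ≤ O) {e : Γ(L, W)} (he : IsGen L W e)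
    (σ : Γ(CohB1.tensorPow L k, O)) : locus σ ⊓ W = X.basicOpen (co k σ h he) :=
  locus_inf h (isGen_pw he k) σ (co_spec σ h he)

theorem locus_smul (hM : PicF.IsInvertible M) {O : X.Opens} (a : Γ(X, O)) (σ : Γ(M, O)) :
    locus (a • σ) = X.basicOpen a ⊓ locus σ := by
  ext x
  by_cases hxO : x ∈ O
  · obtain ⟨U, e, hxU, he⟩ := exists_isGen hM x
    have he' := he.restrict (inf_le_left : U ⊓ O ≤ U)
    obtain ⟨f, hf, -⟩ := he'.exists_eq le_rfl (res M (inf_le_right : U ⊓ O ≤ O) σ)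
    rw [res_self] at hf
    have h1 := locus_inf inf_le_right he' σ hf
    have h2 := locus_inf inf_le_right he' (a • σ)
      (f := rres (inf_le_right : U ⊓ O ≤ O) a * f) (by rw [res_smul, hf, smul_smul])
    rw [Scheme.basicOpen_mul, X.basicOpen_res] at h2
    have h3 := congrArg (fun V : X.Opens ↦ x ∈ V) h1
    have h4 := congrArg (fun V : X.Opens ↦ x ∈ V) h2
    have hxUO : x ∈ U ⊓ O := ⟨hxU, hxO⟩
    simp only [TopologicalSpace.Opens.mem_inf, hxU, hxO, and_true, true_and, eq_iff_iff] at h3 h4 ⊢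
    show x ∈ locus (a • σ) ↔ x ∈ X.basicOpen a ∧ x ∈ locus σ
    rw [h4, h3]
  · exact ⟨fun h ↦ absurd (locus_le _ h) hxO, fun h ↦ absurd (locus_le _ h.2) hxO⟩

/-- Sections on a basic open extend after multiplying by a power of the function. -/
theorem exists_extend_section (hM : Coh.IsQCoh M) {O : X.Opens} (hc : IsCompact (O : Set X))
    (hqs : IsQuasiSeparated (O : Set X)) (a : Γ(X, O)) (σ : Γ(M, X.basicOpen a)) :
    ∃ (N : ℕ) (ρ : Γ(M, O)), res M (X.basicOpen_le a) ρ = rres (X.basicOpen_le a) a ^ N • σ := by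
  haveI : M.IsQuasicoherent := hM
  obtain ⟨n, t, ht⟩ := (isLocalizingAt_of_qcqs M hc hqs a).surj σ
  refine ⟨n, t, ?_⟩
  simpa [map_pow] using ht

theorem exists_locus_eq (hM : PicF.IsInvertible M) {O : X.Opens} (hc : IsCompact (O : Set X))
    (hqs : IsQuasiSeparated (O : Set X)) (a : Γ(X, O)) {D : X.Opens} (hD : D = X.basicOpen a)
    (σ : Γ(M, D)) : ∃ ρ : Γ(M, O), locus ρ = locus σ := by
  subst hD
  obtain ⟨N, ρ, hρ⟩ := exists_extend_section (ProjTwist.isQCoh_of_isInvertible hM) hc hqs a σ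
  refine ⟨a • ρ, ?_⟩
  have hu : IsUnit (rres (X.basicOpen_le a) a ^ N) :=
    (RingedSpace.isUnit_res_basicOpen _ a).pow N
  have h1 := locus_res (X.basicOpen_le a) ρ
  rw [hρ, locus_smul hM, X.basicOpen_of_isUnit hu, inf_eq_right.mpr (locus_le σ), inf_comm] at h1
  rw [locus_smul hM, h1]

lemma isGen_app_iso {N : X.Modules} (e : M ≅ N) {W : X.Opens} {g : Γ(M, W)} (hg : IsGen M W g) :
    IsGen N W (e.hom.app W g) := fun V h ↦ by
  have : sm (e.hom.app W g) h = e.hom.app V ∘ sm g h := funext fun a ↦ by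
    simp only [sm, Function.comp_apply, Scheme.Modules.Hom.app_smul, app_res]
  rw [this]
  exact (ConcreteCategory.bijective_of_isIso (e.hom.app V)).comp (hg V h)

lemma locus_app_iso {N : X.Modules} (e : M ≅ N) {O : X.Opens} (σ : Γ(M, O)) :
    locus (e.hom.app O σ) = locus σ := by
  refine le_antisymm (le_locus (locus_le _) ?_) (le_locus (locus_le _) ?_)
  · have := isGen_app_iso e.symm (isGen_locus (e.hom.app O σ))
    rw [← app_res] at this
    simp only [Iso.symm_hom] at this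
    rwa [← ConcreteCategory.comp_apply, ← Scheme.Modules.Hom.comp_app, Iso.hom_inv_id,
      Scheme.Modules.Hom.id_app] at this
  · rw [← app_res]; exact isGen_app_iso e (isGen_locus σ)

/-- Powers of a local section. -/
theorem exists_pow_section (hL : PicF.IsInvertible L) {k : ℕ} {O : X.Opens}
    (σ : Γ(CohB1.tensorPow L k, O)) {a : ℕ} (ha : 0 < a) (K : ℕ) (hK : K = k * a) :
    ∃ τ : Γ(CohB1.tensorPow L K, O), locus τ = locus σ := by
  obtain ⟨τ, hτ⟩ := exists_of_coeff hL K O (fun W h e he => co k σ h he ^ a)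
    (fun W W' h h' e he => by rw [map_pow, co_res]) (fun W h e he v hv => by
      rw [hK, pow_mul, ← mul_pow, co_smul _ h he hv])
  refine ⟨τ, ?_⟩
  ext x
  by_cases hxO : x ∈ O
  · obtain ⟨U, e, hxU, he⟩ := exists_isGen hL x
    have he' := he.restrict (inf_le_left : U ⊓ O ≤ U)
    have h1 := locus_inf_eq inf_le_right he' τ
    rw [hτ, Scheme.basicOpen_pow _ _ ha, ← locus_inf_eq inf_le_right he' σ] at h1
    have h2 := congrArg (fun V : X.Opens ↦ x ∈ V) h1
    simp only [TopologicalSpace.Opens.mem_inf, hxU, hxO, and_true, eq_iff_iff] at h2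
    exact h2
  · exact ⟨fun h ↦ absurd (locus_le _ h) hxO, fun h ↦ absurd (locus_le _ h) hxO⟩

lemma genLocus_comp_iso {N : X.Modules} (s : Coh.structureModule X ⟶ M) (e : M ≅ N) :
    CohB1.genLocus N (s ≫ e.hom) = CohB1.genLocus M s := by
  unfold CohB1.genLocus
  congr 1
  ext U
  simp only [Set.mem_setOf_eq, Functor.map_comp, isIso_comp_right_iff]

/-- Functoriality of tensor powers in isomorphisms. -/
def tensorPowIso {N : X.Modules} (e : M ≅ N) : (k : ℕ) → (CohB1.tensorPow M k ≅ CohB1.tensorPow N k)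
  | 0 => Iso.refl _
  | k + 1 => PicGrp.tensorModIso (tensorPowIso e k) e

theorem isAmple_of_iso {N : X.Modules} (e : M ≅ N) (h : CohB1.IsAmple M) : CohB1.IsAmple N := by
  refine ⟨PicCl.isInvertible_of_iso e h.1, h.2.1, fun x ↦ ?_⟩
  obtain ⟨n, s, hx, ha⟩ := h.2.2 x
  refine ⟨n, s ≫ (tensorPowIso e (n + 1)).hom, ?_⟩
  rw [genLocus_comp_iso]
  exact ⟨hx, ha⟩

theorem isAmple_iff_of_iso {N : X.Modules} (e : M ≅ N) : CohB1.IsAmple M ↔ CohB1.IsAmple N :=
  ⟨isAmple_of_iso e, isAmple_of_iso e.symm⟩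

theorem isSeparated_of_isAmple (h : CohB1.IsAmple L) : X.IsSeparated :=
  Props.GenSep.isSeparated h.1 h.2.2

/-- Ampleness is inherited along quasi-compact topological embeddings. -/
theorem isAmple_pullback_of_isInducing {X' : Scheme.{u}} [CompactSpace X'] (g : X' ⟶ X)
    (hg : Topology.IsInducing g) (h : CohB1.IsAmple L) :
    CohB1.IsAmple ((Scheme.Modules.pullback g).obj L) :=
  isAmple_of_isBasis (PicCl.isInvertible_pullback g h.1)
    (Props.GenPull.isBasis_pullback g hg h.1 (Props.GenExt.isBasis_of_isAmple h))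

end Groth.Agent.AmpleLib

end
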