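import Groth.Agent.AmpleLib.Span
import Groth.Agent.AmpleLib.Functorial

/-!
# Surjectivity of `f^* f_* G ⟶ G` as generation by sections over preimages of affine opens
-/

set_option autoImplicit false
set_option linter.style.haveILetI false
universe u

open CategoryTheory Limits AlgebraicGeometry Opposite TopologicalSpace

noncomputable section

namespace Groth.Agent.AmpleLib

open Groth.Agent.QCoh Groth.Agent.Props.GenLocus Groth.Agent.Props.GenTensor Groth.Agent.Props.GenProd
open Groth.Agent.PullStalk.Sky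

variable {X Y : Scheme.{u}} {G : X.Modules}

/-- The span at `x` of the germs of sections over `O`. -/
abbrev spanAt (G : X.Modules) {O : X.Opens} {x : X} (hx : x ∈ O) :
    Submodule (X.presheaf.stalk x) (G.presheaf.stalk x) :=
  Submodule.span (X.presheaf.stalk x) (Set.range fun σ : Γ(G, O) ↦ germM G O x hx σ)

lemma map_pushforward_eq {f : X ⟶ Y} {H : X.Modules} (ψ : G ⟶ H) :
    (Scheme.Modules.pushforward f).map ψ =
      (Scheme.Modules.pullbackPushforwardAdjunction f).homEquiv _ _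
        ((Scheme.Modules.pullbackPushforwardAdjunction f).counit.app G ≫ ψ) := by
  simp [Adjunction.homEquiv_unit]

theorem spanAt_eq_top_of_epi (f : X ⟶ Y) [QuasiCompact f] [QuasiSeparated f] (hG : Coh.IsQCoh G)
    (h : Epi ((Scheme.Modules.pullbackPushforwardAdjunction f).counit.app G)) {V : Y.Opens}
    (hV : IsAffineOpen V) {x : X} (hx : f x ∈ V) {W : X.Opens} (hxW : x ∈ W) (m : Γ(G, W)) :
    germM G W x hxW m ∈ spanAt G (O := f ⁻¹ᵁ V) hx := by
  haveI : G.IsQuasicoherent := hG
  set S := spanAt G (O := f ⁻¹ᵁ V) hx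
  have h0 : (Scheme.Modules.pushforward f).map (toSky S.mkQ) = 0 := by
    refine Scheme.Modules.hom_ext _ _ fun U ↦ ?_
    ext σ
    funext hh
    show (show PLift (x ∈ f ⁻¹ᵁ U) → _ from (toSky S.mkQ).app (f ⁻¹ᵁ U) σ) hh = 0
    rw [toSky_app]
    refine (Submodule.Quotient.mk_eq_zero S).mpr ?_
    obtain ⟨g, hg, hxg⟩ := hV.exists_basicOpen_le (V := U) ⟨f x, hh.down⟩ hx
    have hle : X.basicOpen (f.app V g) ≤ f ⁻¹ᵁ U := by
      rw [← Scheme.preimage_basicOpen]; exact f.preimage_mono hg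
    have hxD : x ∈ X.basicOpen (f.app V g) := by rw [← Scheme.preimage_basicOpen]; exact hxg
    obtain ⟨n, t, ht⟩ := (isLocalizingAt_of_qcqs G (f.isCompact_preimage hV.isCompact)
      (f.isQuasiSeparated_preimage hV.isQuasiSeparated) (f.app V g)).surj (res G hle σ)
    obtain ⟨w, hw⟩ : IsUnit (rres (X.basicOpen_le (f.app V g)) (f.app V g) ^ n) :=
      (RingedSpace.isUnit_res_basicOpen _ _).pow n
    rw [← hw] at ht
    have e : res G hle σ = (↑w⁻¹ : Γ(X, X.basicOpen (f.app V g))) • res G (X.basicOpen_le _) t := by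
      rw [ht, smul_smul, Units.inv_mul, one_smul]
    rw [show germM G (f ⁻¹ᵁ U) x hh.down σ = germM G _ x hxD (res G hle σ) from
      (G.presheaf.germ_res_apply _ x hxD σ).symm, e, germM_smul]
    exact S.smul_mem _ (Submodule.subset_span ⟨t, (G.presheaf.germ_res_apply _ x hxD t).symm⟩)
  have h1 : toSky S.mkQ = 0 := by
    refine (cancel_epi ((Scheme.Modules.pullbackPushforwardAdjunction f).counit.app G)).mp ?_
    rw [comp_zero]
    apply ((Scheme.Modules.pullbackPushforwardAdjunction f).homEquiv _ _).injective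
    rw [← map_pushforward_eq, h0]
    simp [Adjunction.homEquiv_unit]
  have h2 := toSky_app S.mkQ W m ⟨hxW⟩
  rw [h1] at h2
  exact (Submodule.Quotient.mk_eq_zero S).mp h2.symm

theorem epi_counit_of_spanAt (f : X ⟶ Y)
    (h : ∀ x : X, ∃ (V : Y.Opens) (hx : f x ∈ V), ∀ (W : X.Opens) (hxW : x ∈ W) (m : Γ(G, W)),
      germM G W x hxW m ∈ spanAt G (O := f ⁻¹ᵁ V) hx) :
    Epi ((Scheme.Modules.pullbackPushforwardAdjunction f).counit.app G) := by
  refine ⟨fun {H : X.Modules} (ψ₁ ψ₂ : G ⟶ H) hψ ↦ Scheme.Modules.hom_ext _ _ fun W ↦ ?_⟩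
  have h0 : (Scheme.Modules.pushforward f).map ψ₁ = (Scheme.Modules.pushforward f).map ψ₂ := by
    rw [map_pushforward_eq, map_pushforward_eq, hψ]
  ext m
  choose V hV hspan using fun x : W ↦ h x.1
  choose P hPW hPV hxP hP using fun x : W ↦
    exists_res_mem_span_on m (hV x) x.2 (hspan x W x.2 m)
  refine eq_of_locally_eq H (U := P) hPW (fun x hx ↦ Opens.mem_iSup.mpr ⟨⟨x, hx⟩, hxP _⟩) _ _ fun x ↦ ?_
  rw [← app_res, ← app_res]
  refine Submodule.span_induction (p := fun z _ ↦ ψ₁.app (P x) z = ψ₂.app (P x) z) ?_ ?_ ?_ ?_ (hP x)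
  · rintro _ ⟨σ, rfl⟩
    dsimp only
    rw [app_res, app_res]
    exact congrArg (res H (hPV x))
      (congrArg (fun φ : (Scheme.Modules.pushforward f).obj G ⟶ (Scheme.Modules.pushforward f).obj H ↦
        φ.app (V x) σ) h0)
  · simp
  · intro z z' _ _ h1 h2
    simp [map_add, h1, h2]
  · intro r z _ h1
    simp [Scheme.Modules.Hom.app_smul, h1]

/-- The value of a form on twisted ideals gives a section of the power. -/
theorem exists_form {L : X.Modules} {M : X.Modules} (φ : M ⟶ Coh.structureModule X) {K : ℕ}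
    {W : X.Opens} {e : Γ(L, W)} (he : IsGen L W e) {x : X} (hxW : x ∈ W) {T : Set Γ(CohB1.tensorMod M (CohB1.tensorPow L K), W)}
    (f : Γ(M, W)) (hf : tmul f (pw L e K) ∈ Submodule.span Γ(X, W) T)
    (hu : x ∈ X.basicOpen (show Γ(X, W) from φ.app W f)) :
    ∃ z ∈ T, x ∈ X.basicOpen (show Γ(X, W) from φ.app W (coF he z)) := by
  let ψ : Γ(CohB1.tensorMod M (CohB1.tensorPow L K), W) →+ Γ(X, W) :=
    AddMonoidHom.mk' (fun z ↦ φ.app W (coF he z)) fun a b ↦ by
      rw [coF_eq he (a + b) (f := coF he a + coF he b) (by rw [tmul_add_left, coF_spec, coF_spec]),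
        map_add]; rfl
  refine exists_basicOpen_of_mem_span ψ (fun a n ↦ ?_) hxW _ hf ?_
  · show φ.app W (coF he (a • n)) = _
    rw [coF_eq he (a • n) (f := a • coF he n) (by rw [tmul_smul_left, coF_spec]),
      Scheme.Modules.Hom.app_smul]
    rfl
  · show x ∈ X.basicOpen (show Γ(X, W) from φ.app W (coF he (tmul f (pw L e K))))
    rw [coF_eq he (tmul f (pw L e K)) rfl]
    exact hu

/-- The locus of a section inside an affine open is affine. -/
theorem isAffineOpen_locus_of_le {L : X.Modules} (hL : PicF.IsInvertible L) {K : ℕ} {O : X.Opens}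
    (σ : Γ(CohB1.tensorPow L K, O)) {W : X.Opens} (hW : IsAffineOpen W) (hWO : W ≤ O)
    (hle : locus σ ≤ W) : IsAffineOpen (locus σ) := by
  have e : locus σ = locus (res _ hWO σ) := by rw [locus_res, inf_eq_left.mpr hle]
  rw [e]
  obtain ⟨s', hs'⟩ := exists_pullOn hL W (res _ hWO σ)
  haveI : IsAffine W.toScheme := hW
  have h := isAffineOpen_genLocus_of_le
    (isInvertible_tensorPow (PicCl.isInvertible_pullback W.ι hL) K) s'
    (isAffineOpen_top W.toScheme) le_top
  rw [hs', ← Scheme.Hom.isAffineOpen_iff_of_isOpenImmersion W.ι,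
    Scheme.Hom.image_preimage_eq_opensRange_inf, Scheme.Opens.opensRange_ι,
    inf_eq_right.mpr (locus_le _)] at h
  exact h

end Groth.Agent.AmpleLib

end
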