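import Groth.Agent.AmpleLib.GenOn

/-!
# Tensor products and relative ampleness
-/

set_option autoImplicit false
set_option linter.style.haveILetI false
universe u

open CategoryTheory Limits AlgebraicGeometry Opposite TopologicalSpace

noncomputable section

namespace Groth.Agent.AmpleLib

open Groth.Agent.QCoh Groth.Agent.Props.GenLocus Groth.Agent.Props.GenTensor Groth.Agent.Props.GenProd
open Groth.Agent.PullStalk.Sky

variable {X Y : Scheme.{u}} {L L' : X.Modules}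

theorem locus_tmul {M N : X.Modules} (hM : PicF.IsInvertible M) (hN : PicF.IsInvertible N)
    {O : X.Opens} (σ : Γ(M, O)) (τ : Γ(N, O)) :
    locus (tmul σ τ) = locus σ ⊓ locus τ := by
  ext x
  by_cases hxO : x ∈ O
  · obtain ⟨U, a, hxU, ha⟩ := exists_isGen hM x
    obtain ⟨U', b, hxU', hb⟩ := exists_isGen hN x
    let W : X.Opens := U ⊓ U' ⊓ O
    have hWU : W ≤ U := inf_le_left.trans inf_le_left
    have hWU' : W ≤ U' := inf_le_left.trans inf_le_right
    have hWO : W ≤ O := inf_le_right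
    obtain ⟨c, hc, -⟩ := (ha.restrict hWU).exists_eq le_rfl (res M hWO σ)
    obtain ⟨d, hd, -⟩ := (hb.restrict hWU').exists_eq le_rfl (res N hWO τ)
    rw [res_self] at hc hd
    have h0 : res _ hWO (tmul σ τ) = (c * d) • tmul (res M hWU a) (res N hWU' b) := by
      rw [res_tmul, hc, hd, tmul_smul_left, tmul_smul_right, smul_smul]
    have h1 := locus_inf hWO (isGen_tmul (ha.restrict hWU) (hb.restrict hWU')) (tmul σ τ) h0
    rw [Scheme.basicOpen_mul, ← locus_inf hWO (ha.restrict hWU) σ hc,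
      ← locus_inf hWO (hb.restrict hWU') τ hd] at h1
    have h2 := congrArg (fun V : X.Opens ↦ x ∈ V) h1
    have hxW : x ∈ W := ⟨⟨hxU, hxU'⟩, hxO⟩
    simp only [TopologicalSpace.Opens.mem_inf, hxW, and_true, eq_iff_iff] at h2
    exact h2
  · exact ⟨fun h ↦ absurd (locus_le _ h) hxO, fun h ↦ absurd (locus_le _ h.1) hxO⟩

theorem exists_iso_tensorPow_tensor (hL : PicF.IsInvertible L) (hL' : PicF.IsInvertible L') (k : ℕ) :
    ∃ φ : CohB1.tensorMod (CohB1.tensorPow L k) (CohB1.tensorPow L' k) ≅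
        CohB1.tensorPow (CohB1.tensorMod L L') k,
      ∀ (U : X.Opens) (e : Γ(L, U)) (e' : Γ(L', U)), IsGen L U e → IsGen L' U e' →
        ∀ (V : X.Opens) (h : V ≤ U) (a : Γ(X, V)),
          φ.hom.app V (a • res _ h (tmul (pw L e k) (pw L' e' k))) =
            a • res _ h (pw (CohB1.tensorMod L L') (tmul e e') k) := by
  let ι := {p : Σ U : X.Opens, Γ(L, U) × Γ(L', U) // IsGen L p.1 p.2.1 ∧ IsGen L' p.1 p.2.2}
  obtain ⟨φ, hφ⟩ := exists_iso_of_gen (fun i : ι ↦ i.1.1) (by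
      intro x _
      obtain ⟨U, e, hxU, he⟩ := exists_isGen hL x
      obtain ⟨U', e', hxU', he'⟩ := exists_isGen hL' x
      exact Opens.mem_iSup.mpr ⟨(⟨⟨U ⊓ U', res L inf_le_left e, res L' inf_le_right e'⟩,
        he.restrict _, he'.restrict _⟩ : ι), hxU, hxU'⟩)
    (fun i ↦ tmul (pw L i.1.2.1 k) (pw L' i.1.2.2 k))
    (fun i ↦ isGen_tmul (isGen_pw i.2.1 k) (isGen_pw i.2.2 k))
    (fun i ↦ pw (CohB1.tensorMod L L') (tmul i.1.2.1 i.1.2.2) k)
    (fun i ↦ isGen_pw (isGen_tmul i.2.1 i.2.2) k) (by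
      rintro ⟨⟨U, e, e'⟩, he, he'⟩ ⟨⟨U', d, d'⟩, hd, hd'⟩ V hi hj w hw
      obtain ⟨u, hu, -⟩ := he.exists_eq hi (res L hj d)
      obtain ⟨u', hu', -⟩ := he'.exists_eq hi (res L' hj d')
      dsimp only at *
      rw [res_tmul, res_tmul, res_pw_eq hi hj hu k, res_pw_eq hi hj hu' k, tmul_smul_left,
        tmul_smul_right, smul_smul, ← res_tmul] at hw
      have hwu := (isGen_tmul (isGen_pw he k) (isGen_pw he' k)).injective hi hw
      have ht : res _ hj (tmul d d') = (u * u') • res _ hi (tmul e e') := by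
        rw [res_tmul, res_tmul, hu, hu', tmul_smul_left, tmul_smul_right, smul_smul]
      rw [res_pw_eq hi hj ht k, ← hwu, mul_pow])
  exact ⟨φ, fun U e e' he he' ↦ hφ ⟨⟨U, e, e'⟩, he, he'⟩⟩

theorem ampleOn_tensor (hL : PicF.IsInvertible L) (hL' : PicF.IsInvertible L') {O : X.Opens}
    (h : AmpleOn L O) (h' : ∀ x ∈ O, ∃ (b : ℕ) (τ : Γ(CohB1.tensorPow L' b, O)), 0 < b ∧ x ∈ locus τ) :
    AmpleOn (CohB1.tensorMod L L') O := by
  refine ⟨h.1, fun x hx ↦ ?_⟩
  obtain ⟨a, σ, hxσ, haff⟩ := h.2 x hx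
  obtain ⟨b, τ, hb, hxτ⟩ := h' x hx
  obtain ⟨c, rfl⟩ := Nat.exists_eq_succ_of_ne_zero hb.ne'
  obtain ⟨m, hm⟩ : ∃ m, (a + 1) * (c + 1) = m + 1 :=
    ⟨(a + 1) * (c + 1) - 1, (Nat.succ_pred_eq_of_pos (Nat.mul_pos a.succ_pos c.succ_pos)).symm⟩
  obtain ⟨S, hS⟩ := exists_pow_section hL σ c.succ_pos (m + 1) hm.symm
  obtain ⟨T, hT⟩ := exists_pow_section hL' τ a.succ_pos (m + 1) (hm.symm.trans (Nat.mul_comm _ _))
  obtain ⟨φ, -⟩ := exists_iso_tensorPow_tensor hL hL' (m + 1)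
  refine ⟨m, φ.hom.app O (tmul S T), ?_⟩
  rw [locus_app_iso, locus_tmul (isInvertible_tensorPow hL _) (isInvertible_tensorPow hL' _), hS, hT]
  refine ⟨⟨hxσ, hxτ⟩, ?_⟩
  have h1 := isAffineOpen_locus_of_le hL' (res _ (locus_le σ) τ) haff le_rfl (locus_le _)
  rwa [locus_res, inf_comm] at h1

/-- Some section generating at a point where the sections span. -/
theorem exists_locus_mem {M : X.Modules} (hM : PicF.IsInvertible M) {O : X.Opens} {x : X} (hx : x ∈ O)
    (h : ∀ (W : X.Opens) (hxW : x ∈ W) (m : Γ(M, W)), germM M W x hxW m ∈ spanAt M (O := O) hx) :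
    ∃ τ : Γ(M, O), x ∈ locus τ := by
  obtain ⟨U, e, hxU, he⟩ := exists_isGen hM x
  obtain ⟨W, hW, hWO, hxW, hmem⟩ := exists_res_mem_span_on e hx hxU (h U hxU e)
  have he' := he.restrict hW
  let E : Γ(X, W) ≃ Γ(M, W) := Equiv.ofBijective _ (he' W le_rfl)
  have hE : ∀ z : Γ(M, W), E.symm z • res M hW e = z := fun z ↦ by
    have := E.apply_symm_apply z
    rw [Equiv.ofBijective_apply] at this
    refine Eq.trans ?_ this
    exact congrArg (fun q : Γ(M, W) ↦ E.symm z • q) (res_self M le_rfl _).symm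
  have hinj : ∀ {a b : Γ(X, W)}, a • res M hW e = b • res M hW e → a = b := fun {a b} hab ↦
    he'.injective le_rfl (by rwa [res_self])
  let φ : Γ(M, W) →+ Γ(X, W) := AddMonoidHom.mk' E.symm fun a b ↦ hinj (by rw [hE, add_smul, hE, hE])
  obtain ⟨_, ⟨τ, rfl⟩, hτ⟩ := exists_basicOpen_of_mem_span φ
    (fun a n ↦ hinj (by show E.symm (a • n) • _ = _; rw [hE, mul_smul]; exact congrArg (a • ·) (hE n).symm))
    hxW _ hmem (by
      show x ∈ X.basicOpen (E.symm (res M hW e))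
      rw [show E.symm (res M hW e) = 1 from hinj (by rw [hE, one_smul]), Scheme.basicOpen_of_isUnit _ isUnit_one]
      exact hxW)
  refine ⟨τ, ?_⟩
  have : x ∈ locus τ ⊓ W := by
    rw [locus_inf hWO he' τ (hE _).symm]
    exact hτ
  exact this.1

theorem isSeparated_of_isRelAmple {f : X ⟶ Y} (h : RelAmple.IsRelAmple f L) : IsSeparated f := by
  obtain ⟨-, hL, hV⟩ := isRelAmple_iff.mp h
  rw [IsZariskiLocalAtTarget.iff_of_iSup_eq_top (P := @IsSeparated) _ (iSup_affineOpens_eq_top Y)]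
  intro V
  haveI := isSeparated_of_ampleOn hL (hV V)
  haveI : IsSeparated ((f ∣_ V.1) ≫ terminal.from _) := by
    rw [terminal.hom_ext ((f ∣_ V.1) ≫ terminal.from _) (terminal.from _)]
    infer_instance
  exact IsSeparated.of_comp (f ∣_ V.1) (terminal.from _)

end Groth.Agent.AmpleLib

end
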