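import Groth.Agent.AmpleLib.Rel
import Groth.Agent.AmpleLib.Tensor
import Groth.Agent.AmpleLib.Functorial
import Groth.Agent.AmpleLib.Counit
import Groth.Agent.S2324
import Groth.Prelude.Def_FlatMod2
import Mathlib.RingTheory.Norm.Defs

/-!
# Descent of ampleness along finite surjective morphisms with locally free direct image
-/

set_option autoImplicit false
set_option linter.style.haveILetI false
universe u

open CategoryTheory Limits AlgebraicGeometry Opposite TopologicalSpace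

noncomputable section

namespace Groth.Agent.AmpleLib

open Groth.Agent.QCoh Groth.Agent.Props.GenLocus Groth.Agent.Props.GenTensor Groth.Agent.Props.GenProd
open Groth.Agent.Props.GenPull

variable {X X' : Scheme.{u}} (g : X' ⟶ X)

/-- The direct image of the structure sheaf. -/
abbrev pushO : X.Modules := (Coh.push g).obj (Coh.structureModule X')

/-- The norm of functions along `g` over an open `V`. -/
def nrm (V : X.Opens) : Γ(X', g ⁻¹ᵁ V) →* Γ(X, V) :=
  letI := (g.app V).hom.toAlgebra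
  Algebra.norm Γ(X, V)

variable {g} {W : X.Opens} {d : ℕ} {b : Fin d → Γ(pushO g, W)}

theorem exists_basis_of_isFrame (hb : LFFrame.IsFrame (pushO g) W b) {V : X.Opens} (h : V ≤ W) :
    letI := (g.app V).hom.toAlgebra
    ∃ B : Module.Basis (Fin d) Γ(X, V) Γ(X', g ⁻¹ᵁ V),
      ∀ j, B j = rres (g.preimage_mono h) (show Γ(X', g ⁻¹ᵁ W) from b j) := by
  letI := (g.app V).hom.toAlgebra
  let v : Fin d → Γ(X', g ⁻¹ᵁ V) := fun j => rres (g.preimage_mono h) (show Γ(X', g ⁻¹ᵁ W) from b j)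
  have hv : Function.Bijective (Fintype.linearCombination Γ(X, V) v) := by
    have e : (Fintype.linearCombination Γ(X, V) v : (Fin d → Γ(X, V)) → Γ(X', g ⁻¹ᵁ V)) =
        LFFrame.comb (pushO g) b h := funext fun a => Fintype.linearCombination_apply _ _ _
    rw [e]
    exact hb V h
  refine ⟨Module.Basis.ofEquivFun (LinearEquiv.ofBijective _ hv).symm, fun j => ?_⟩
  classical
  simp [Module.Basis.coe_ofEquivFun, Fintype.linearCombination_apply_single, v]

theorem nrm_app_mul (hb : LFFrame.IsFrame (pushO g) W b) {V : X.Opens} (h : V ≤ W) (c : Γ(X, V))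
    (f : Γ(X', g ⁻¹ᵁ V)) : nrm g V (g.app V c * f) = c ^ d * nrm g V f := by
  letI := (g.app V).hom.toAlgebra
  obtain ⟨B, -⟩ := exists_basis_of_isFrame hb h
  rw [map_mul]
  congr 1
  exact (Algebra.norm_algebraMap_of_basis B c).trans (by rw [Fintype.card_fin])

theorem isUnit_of_isUnit_nrm (hb : LFFrame.IsFrame (pushO g) W b) {V : X.Opens} (h : V ≤ W)
    (f : Γ(X', g ⁻¹ᵁ V)) (hf : IsUnit (nrm g V f)) : IsUnit f := by
  letI := (g.app V).hom.toAlgebra
  obtain ⟨B, -⟩ := exists_basis_of_isFrame hb h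
  haveI := Module.Free.of_basis B
  haveI := Module.Finite.of_basis B
  have h2 : IsUnit (LinearMap.det (Algebra.lmul Γ(X, V) Γ(X', g ⁻¹ᵁ V) f)) := hf
  obtain ⟨z, hz⟩ := ((Module.End.isUnit_iff _).mp
    ((LinearMap.isUnit_iff_isUnit_det _).mpr h2)).2 1
  exact IsUnit.of_mul_eq_one _ hz

theorem rres_nrm (hb : LFFrame.IsFrame (pushO g) W b) {V V' : X.Opens} (h : V ≤ W) (h' : V' ≤ V)
    (f : Γ(X', g ⁻¹ᵁ V)) :
    rres h' (nrm g V f) = nrm g V' (rres (g.preimage_mono h') f) := by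
  classical
  obtain ⟨B, hB⟩ := exists_basis_of_isFrame hb h
  obtain ⟨B', hB'⟩ := exists_basis_of_isFrame hb (h'.trans h)
  letI a₁ := (g.app V).hom.toAlgebra
  letI a₂ := (g.app V').hom.toAlgebra
  change rres h' (Algebra.norm Γ(X, V) f) = Algebra.norm Γ(X, V') (rres (g.preimage_mono h') f)
  rw [Algebra.norm_eq_matrix_det B, Algebra.norm_eq_matrix_det B']
  refine (RingHom.map_det (rres h').hom _).trans (congrArg Matrix.det ?_)
  ext i j
  rw [RingHom.mapMatrix_apply, Matrix.map_apply, Algebra.leftMulMatrix_eq_repr_mul,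
    Algebra.leftMulMatrix_eq_repr_mul]
  let a : Fin d → Γ(X, V') := fun l => rres h' (B.repr (f * B j) l)
  have hj : rres (g.preimage_mono h') (B j) = B' j := by
    rw [hB, hB', rres_rres]
  have hsum : rres (g.preimage_mono h') f * B' j = ∑ l, a l • B' l := by
    rw [← hj, ← map_mul]
    conv_lhs => rw [← B.sum_repr (f * B j)]
    rw [map_sum]
    refine Finset.sum_congr rfl fun l _ => ?_
    have hl : rres (g.preimage_mono h') (B l) = B' l := by rw [hB, hB', rres_rres]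
    rw [← hl, Algebra.smul_def, Algebra.smul_def, map_mul]
    congr 1
    exact (app_rres g h' (B.repr (f * B j) l)).symm
  rw [hsum, Module.Basis.repr_sum_self]

theorem exists_superset_on {L : X.Modules} (hL : PicF.IsInvertible L) {O : X.Opens} (h : AmpleOn L O)
    {E : Set X} (hE : E.Finite) (hEO : E ⊆ O) {U : X.Opens} (hEU : E ⊆ U) :
    ∃ (n : ℕ) (σ : Γ(CohB1.tensorPow L (n + 1), O)), E ⊆ locus σ ∧ locus σ ≤ U := by
  have hamp : CohB1.IsAmple ((Scheme.Modules.pullback O.ι).obj L) :=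
    isAmple_of_iso ((Scheme.Modules.restrictFunctorIsoPullback O.ι).app L)
      ((isAmple_restrict_iff hL O).mpr h)
  haveI := hamp.2.1
  haveI := isSeparated_of_isAmple hamp
  obtain ⟨n, s, hEs, hsU, -⟩ := Groth.Agent.S2324.result O.toScheme _ hamp (O.ι ⁻¹' E)
    (hE.preimage O.ι.isOpenEmbedding.injective.injOn) (O.ι ⁻¹ᵁ U) (fun y hy => hEU hy)
  obtain ⟨σ, hσ⟩ := exists_push hL O s
  refine ⟨n, σ, fun y hy => ?_, ?_⟩
  · rw [← hσ]
    exact ⟨⟨y, hEO hy⟩, hEs (show O.ι ⟨y, hEO hy⟩ ∈ E from hy), rfl⟩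
  · rw [← hσ]
    rintro _ ⟨y, hy, rfl⟩
    exact hsU hy

variable (g)

theorem ampleOn_of_pullback [IsFinite g] [Surjective g] (hfree : FlatMod.IsFinLocFree (pushO g))
    {L : X.Modules} (hL : PicF.IsInvertible L) {O : X.Opens} (hc : IsCompact (O : Set X))
    (h : AmpleOn ((Scheme.Modules.pullback g).obj L) (g ⁻¹ᵁ O)) : AmpleOn L O := by
  classical
  refine ⟨hc, fun x hx => ?_⟩
  obtain ⟨U, hU, hxU, hUO⟩ := exists_isAffineOpen_mem_and_subset (X := X) (x := x) (U := O) hx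
  have hL' := PicCl.isInvertible_pullback g hL
  obtain ⟨n, σ, hEσ, hσU⟩ := exists_superset_on hL' h (E := g ⁻¹' {x})
    (g.finite_preimage_singleton x) (fun y hy => (show g y ∈ O from (show g y = x from hy) ▸ hx))
    (U := g ⁻¹ᵁ U) (fun y hy => (show g y ∈ U from (show g y = x from hy) ▸ hxU))
  have hcov : ∀ y : O, ∃ (W : X.Opens) (e : Γ(L, W)) (d : ℕ) (b : Fin d → Γ(pushO g, W)),
      y.1 ∈ W ∧ W ≤ O ∧ IsGen L W e ∧ LFFrame.IsFrame (pushO g) W b := by
    rintro ⟨y, hy⟩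
    obtain ⟨W₁, e, hy₁, he⟩ := exists_isGen hL y
    obtain ⟨W₂, d, b, hy₂, hb⟩ := LFFrame.exists_isFrame_of_isFinLocFree hfree y
    refine ⟨W₁ ⊓ W₂ ⊓ O, res L (inf_le_left.trans inf_le_left) e, d,
      fun j => res (pushO g) (inf_le_left.trans inf_le_right : W₁ ⊓ W₂ ⊓ O ≤ W₂) (b j),
      ⟨⟨hy₁, hy₂⟩, hy⟩, inf_le_right, he.restrict _, fun V hV => ?_⟩
    have e1 : LFFrame.comb (pushO g)
        (fun j => res (pushO g) (inf_le_left.trans inf_le_right : W₁ ⊓ W₂ ⊓ O ≤ W₂) (b j)) hV =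
        LFFrame.comb (pushO g) b (hV.trans (inf_le_left.trans inf_le_right)) :=
      funext fun a => by simp only [LFFrame.comb, LFFrame.res_res]
    rw [e1]
    exact hb _ _
  choose W e d b hyW hWO he hb using hcov
  obtain ⟨t, ht⟩ := hc.elim_finite_subcover (fun y : O => (W y : Set X)) (fun y => (W y).2)
    fun z hz => Set.mem_iUnion.mpr ⟨⟨z, hz⟩, hyW _⟩
  have hsub : ∀ z ∈ O, ∃ i : t, z ∈ W i.1 := fun z hz => by
    obtain ⟨y, hy, hzy⟩ := Set.mem_iUnion₂.mp (ht hz)
    exact ⟨⟨y, hy⟩, hzy⟩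
  have hnt : ∀ (V : X.Opens) (z : X), z ∈ V → Nontrivial Γ(X, V) := fun V z hz =>
    (X.presheaf.germ V z hz).hom.domain_nontrivial
  have hdeq : ∀ (i j : O) (V : X.Opens), V ≤ W i → V ≤ W j → Nontrivial Γ(X, V) → d i = d j := by
    intro i j V hi hj hV
    haveI := hV
    letI := (g.app V).hom.toAlgebra
    obtain ⟨B, -⟩ := exists_basis_of_isFrame (hb i) hi
    obtain ⟨B', -⟩ := exists_basis_of_isFrame (hb j) hj
    simpa using Fintype.card_congr (B.indexEquiv B')
  let dd : O → ℕ := fun i => max (d i) 1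
  let D := ∏ i ∈ t, dd i
  have hD : ∀ i : t, dd i.1 * (D / dd i.1) = D := fun i =>
    Nat.mul_div_cancel' (Finset.dvd_prod_of_mem dd i.2)
  have hDpos : 0 < D := Finset.prod_pos fun i _ => Nat.lt_of_lt_of_le one_pos (le_max_right _ _)
  have hd : ∀ i : t, 0 < d i.1 := fun i => by
    by_contra hd0
    obtain ⟨y, hy⟩ := g.surjective i.1.1
    have hyW' : y ∈ g ⁻¹ᵁ W i.1 := show g y ∈ W i.1 from hy ▸ hyW i.1
    haveI : Nontrivial Γ(X', g ⁻¹ᵁ W i.1) := (X'.presheaf.germ _ y hyW').hom.domain_nontrivial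
    letI := (g.app (W i.1)).hom.toAlgebra
    obtain ⟨B, -⟩ := exists_basis_of_isFrame (hb i.1) le_rfl
    haveI : IsEmpty (Fin (d i.1)) := by
      rw [show d i.1 = 0 by omega]; infer_instance
    haveI := B.repr.toEquiv.subsingleton
    exact not_subsingleton Γ(X', g ⁻¹ᵁ W i.1) inferInstance
  have hgWO : ∀ i : O, g ⁻¹ᵁ W i ≤ g ⁻¹ᵁ O := fun i => g.preimage_mono (hWO i)
  let N : ∀ i : t, Γ(X, W i.1) := fun i =>
    nrm g (W i.1) (co (n + 1) σ (hgWO i.1) (isGen_pb g (he i.1)))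
  let c : ∀ i : t, Γ(X, W i.1) := fun i => N i ^ (D / dd i.1)
  let K := (n + 1) * D
  obtain ⟨m, hm⟩ : ∃ m, K = m + 1 :=
    ⟨K - 1, (Nat.succ_pred_eq_of_pos (Nat.mul_pos n.succ_pos hDpos)).symm⟩
  obtain ⟨ρ, hρ⟩ := exists_glue (CohB1.tensorPow L K) (U := fun i : t => W i.1) (V := O)
    (fun i => hWO i.1) (fun z hz => Opens.mem_iSup.mpr (hsub z hz))
    (fun i => c i • pw L (e i.1) K) fun i j => by
      set V := W i.1 ⊓ W j.1
      rcases subsingleton_or_nontrivial Γ(X, V) with hV | hV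
      · exact ((isGen_pw (he i.1) K).restrict (inf_le_left : V ≤ _) V le_rfl).surjective.subsingleton.elim _ _
      obtain ⟨u, -, hu⟩ := exists_unit_smul ((he i.1).restrict (inf_le_left : V ≤ W i.1))
        ((he j.1).restrict (inf_le_right : V ≤ W j.1))
      have hdd : d i.1 = d j.1 := hdeq i.1 j.1 V inf_le_left inf_le_right hV
      have hdd' : dd i.1 = dd j.1 := by simp only [dd, hdd]
      have h1 := congrArg (LFFrame.unitSec g L V) hu
      rw [LFFrame.unitSec_smul, LFFrame.unitSec_res, LFFrame.unitSec_res] at h1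
      have h2 : rres (g.preimage_mono (inf_le_left : V ≤ W i.1))
          (co (n + 1) σ (hgWO i.1) (isGen_pb g (he i.1))) =
          g.app V (u ^ (n + 1)) * rres (g.preimage_mono (inf_le_right : V ≤ W j.1))
            (co (n + 1) σ (hgWO j.1) (isGen_pb g (he j.1))) := by
        rw [map_pow, co_res, co_res]
        exact Props.GenExt.co_of_eq_smul _ _ _ _ h1
      have h3 : rres (inf_le_left : V ≤ W i.1) (N i) =
          (u ^ (n + 1)) ^ d i.1 * rres (inf_le_right : V ≤ W j.1) (N j) := by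
        simp only [N]
        rw [rres_nrm (hb i.1) le_rfl, rres_nrm (hb j.1) le_rfl, h2,
          nrm_app_mul (hb i.1) (inf_le_left : V ≤ W i.1)]
      have h4 : rres (inf_le_left : V ≤ W i.1) (c i) =
          u ^ K * rres (inf_le_right : V ≤ W j.1) (c j) := by
        simp only [c, map_pow, h3, mul_pow, ← pow_mul, ← hdd', K]
        congr 2
        rw [show d i.1 = dd i.1 from (max_eq_left (hd i)).symm, mul_assoc, hD i]
      rw [res_smul, res_smul, res_pw, res_pw, hu, pw_smul, smul_smul, h4]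
      exact congrArg (· • _) (mul_comm _ _)
  have hlocρ : ∀ i : t, locus ρ ⊓ W i.1 = X.basicOpen (c i) := fun i =>
    locus_inf (hWO i.1) (isGen_pw (he i.1) K) ρ (hρ i)
  have hlocσ : ∀ i : t, locus σ ⊓ g ⁻¹ᵁ W i.1 =
      X'.basicOpen (co (n + 1) σ (hgWO i.1) (isGen_pb g (he i.1))) := fun i => locus_inf_eq _ _ σ
  have hpos : ∀ i : t, 0 < D / dd i.1 := fun i => Nat.pos_of_ne_zero fun h0 => by
    have := hD i; rw [h0, Nat.mul_zero] at this; omega
  have hle : locus ρ ≤ U := by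
    intro z hz
    obtain ⟨i, hzi⟩ := hsub z (locus_le ρ hz)
    have hz' : z ∈ X.basicOpen (N i) := by
      have h1 : z ∈ X.basicOpen (c i) := hlocρ i ▸ ⟨hz, hzi⟩
      rwa [Scheme.basicOpen_pow _ _ (hpos i)] at h1
    set V := X.basicOpen (N i)
    have hu : IsUnit (rres (X.basicOpen_le (N i)) (N i)) := RingedSpace.isUnit_res_basicOpen _ _
    simp only [N] at hu
    rw [rres_nrm (hb i.1) le_rfl] at hu
    have hu' := isUnit_of_isUnit_nrm (hb i.1) (X.basicOpen_le (N i)) _ hu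
    obtain ⟨y, rfl⟩ := g.surjective z
    have hyb := X'.basicOpen_of_isUnit hu'
    rw [Scheme.basicOpen_res, inf_eq_left] at hyb
    have hy2 : y ∈ X'.basicOpen (co (n + 1) σ (hgWO i.1) (isGen_pb g (he i.1))) := hyb hz'
    rw [← hlocσ i] at hy2
    exact hσU hy2.1
  have hxρ : x ∈ locus ρ := by
    obtain ⟨i, hxi⟩ := hsub x hx
    have hclosed : IsClosed (g '' ((locus σ : Set X')ᶜ)) := g.isClosedMap _ (locus σ).2.isClosed_compl
    let V : X.Opens := ⟨(W i.1 : Set X) \ g '' ((locus σ : Set X')ᶜ), (W i.1).2.sdiff hclosed⟩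
    have hxV : x ∈ V := ⟨hxi, fun ⟨y, hy, hyx⟩ => hy (hEσ hyx)⟩
    have hVW : V ≤ W i.1 := Set.sdiff_subset
    have hVσ : g ⁻¹ᵁ V ≤ X'.basicOpen (co (n + 1) σ (hgWO i.1) (isGen_pb g (he i.1))) := by
      rw [← hlocσ i]
      intro y hy
      exact ⟨not_not.mp fun hn => hy.2 ⟨y, hn, rfl⟩, hy.1⟩
    have hu0 := RingedSpace.isUnit_res_basicOpen X'.toRingedSpace
      (co (n + 1) σ (hgWO i.1) (isGen_pb g (he i.1)))
    have hu1 := hu0.map (rres hVσ).hom
    have hu2 : IsUnit (rres (g.preimage_mono hVW) (co (n + 1) σ (hgWO i.1) (isGen_pb g (he i.1)))) :=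
      (rres_rres (X'.basicOpen_le (co (n + 1) σ (hgWO i.1) (isGen_pb g (he i.1)))) hVσ
        (co (n + 1) σ (hgWO i.1) (isGen_pb g (he i.1)))) ▸ hu1
    have hu3 : IsUnit (rres hVW (N i)) := by
      simp only [N]
      rw [rres_nrm (hb i.1) le_rfl]
      exact hu2.map (nrm g V)
    have h4 : x ∈ X.basicOpen (c i) := by
      rw [Scheme.basicOpen_pow _ _ (hpos i)]
      have h5 := X.basicOpen_of_isUnit hu3
      rw [Scheme.basicOpen_res, inf_eq_left] at h5
      exact h5 hxV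
    rw [← hlocρ i] at h4
    exact h4.1
  suffices key : ∀ (k : ℕ) (ρ' : Γ(CohB1.tensorPow L k, O)), k = m + 1 → x ∈ locus ρ' →
      locus ρ' ≤ U → ∃ (a : ℕ) (τ : Γ(CohB1.tensorPow L (a + 1), O)),
        x ∈ locus τ ∧ IsAffineOpen (locus τ) from key K ρ hm hxρ hle
  rintro k ρ' rfl h1 h2
  exact ⟨m, ρ', h1, isAffineOpen_locus_of_le hL ρ' hU hUO h2⟩

theorem isRelAmple_iff_pullback [IsFinite g] [Surjective g]
    (hfree : FlatMod.IsFinLocFree (pushO g)) {Y : Scheme.{u}} (f : X ⟶ Y) [QuasiCompact f]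
    {L : X.Modules} (hL : PicF.IsInvertible L) :
    RelAmple.IsRelAmple f L ↔
      RelAmple.IsRelAmple (g ≫ f) ((Scheme.Modules.pullback g).obj L) := by
  have hL' := PicCl.isInvertible_pullback g hL
  rw [isRelAmple_iff, isRelAmple_iff]
  refine ⟨fun ⟨_, _, h⟩ => ⟨inferInstance, hL', fun V => ?_⟩,
    fun ⟨_, _, h⟩ => ⟨inferInstance, hL, fun V => ?_⟩⟩
  · rw [Scheme.Hom.comp_preimage]
    refine ampleOn_pullback_of_qa hL g le_rfl (h V) fun W hW hWle => ?_
    rw [inf_eq_left.mpr (g.preimage_mono hWle)]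
    exact isQuasiAffine_of_isAffineOpen (hW.preimage g)
  · refine ampleOn_of_pullback g hfree hL (f.isCompact_preimage V.2.isCompact) ?_
    rw [← Scheme.Hom.comp_preimage]
    exact h V

end Groth.Agent.AmpleLib

end
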