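import Groth.Agent.AmpleLib.Open
import Groth.Prelude.Def_LCI2

/-!
# Relative ampleness in terms of sections over preimages of affine opens
-/

set_option autoImplicit false
set_option linter.style.haveILetI false
universe u

open CategoryTheory Limits AlgebraicGeometry Opposite TopologicalSpace

noncomputable section

namespace Groth.Agent.AmpleLib

open Groth.Agent.QCoh Groth.Agent.Props.GenLocus

variable {X Y : Scheme.{u}} {L : X.Modules}

theorem isAmple_pullback_openImmersion_iff {Z : Scheme.{u}} (hL : PicF.IsInvertible L) (a : Z ⟶ X)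
    [IsOpenImmersion a] :
    CohB1.IsAmple ((Scheme.Modules.pullback a).obj L) ↔ AmpleOn L a.opensRange := by
  rw [← isAmple_restrict_iff hL]
  let e := a.isoOpensRange
  have he : e.hom ≫ a.opensRange.ι = a := a.isoOpensRange_hom_ι
  have he' : e.inv ≫ a = a.opensRange.ι := a.isoOpensRange_inv_comp
  constructor
  · intro h
    haveI := h.2.1
    haveI : CompactSpace a.opensRange.toScheme := e.inv.homeomorph.symm.compactSpace
    refine isAmple_of_iso ?_ (isAmple_pullback_of_isInducing e.inv e.inv.homeomorph.isInducing h)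
    exact ((Scheme.Modules.pullbackComp e.inv a).app L) ≪≫
      ((Scheme.Modules.pullbackCongr he').app L) ≪≫
      ((Scheme.Modules.restrictFunctorIsoPullback a.opensRange.ι).app L).symm
  · intro h
    haveI := h.2.1
    haveI : CompactSpace Z := e.hom.homeomorph.symm.compactSpace
    refine isAmple_of_iso ?_ (isAmple_pullback_of_isInducing e.hom e.hom.homeomorph.isInducing h)
    exact ((Scheme.Modules.pullback e.hom).mapIso
        ((Scheme.Modules.restrictFunctorIsoPullback a.opensRange.ι).app L)) ≪≫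
      ((Scheme.Modules.pullbackComp e.hom a.opensRange.ι).app L) ≪≫
      ((Scheme.Modules.pullbackCongr he).app L)

theorem isInvertible_of_forall_restrict {ι : Type*} (U : ι → X.Opens) (hU : ⊤ ≤ iSup U)
    (h : ∀ i, PicF.IsInvertible (L.restrict (U i).ι)) : PicF.IsInvertible L := by
  refine isInvertible_of_exists_isGen fun x ↦ ?_
  obtain ⟨i, hi⟩ := Opens.mem_iSup.mp (hU (trivial : x ∈ (⊤ : X.Opens)))
  obtain ⟨V, e, hxV, -, he⟩ := exists_isGen_of_isInvertible_restrict (h i) hi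
  exact ⟨V, e, hxV, he⟩

theorem isInvertible_of_isRelAmple {f : X ⟶ Y} (h : RelAmple.IsRelAmple f L) :
    PicF.IsInvertible L :=
  isInvertible_of_forall_restrict (fun V : Y.affineOpens ↦ f ⁻¹ᵁ V.1)
    (by rw [← Scheme.Hom.preimage_iSup, iSup_affineOpens_eq_top]; rfl) fun V ↦ (h.2 V).1

theorem isRelAmple_iff {f : X ⟶ Y} :
    RelAmple.IsRelAmple f L ↔ QuasiCompact f ∧ PicF.IsInvertible L ∧
      ∀ V : Y.affineOpens, AmpleOn L (f ⁻¹ᵁ V.1) :=
  ⟨fun h ↦ ⟨h.1, isInvertible_of_isRelAmple h,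
    fun V ↦ (isAmple_restrict_iff (isInvertible_of_isRelAmple h) _).mp (h.2 V)⟩,
   fun h ↦ ⟨h.1, fun V ↦ (isAmple_restrict_iff h.2.1 _).mpr (h.2.2 V)⟩⟩

/-- Gluing: ampleness over the members of a cover gives ampleness over an affine open. -/
theorem ampleOn_of_cover (f : X ⟶ Y) [QuasiCompact f] (hL : PicF.IsInvertible L) {V : Y.Opens}
    (hV : IsAffineOpen V) {ι : Type*} (U : ι → Y.Opens) (hU : V ≤ iSup U)
    (h : ∀ i, AmpleOn L (f ⁻¹ᵁ U i)) : AmpleOn L (f ⁻¹ᵁ V) := by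
  have hsmall : ∀ y ∈ V, ∃ g : Γ(Y, V), y ∈ Y.basicOpen g ∧ AmpleOn L (f ⁻¹ᵁ Y.basicOpen g) := by
    intro y hy
    obtain ⟨i, hi⟩ := Opens.mem_iSup.mp (hU hy)
    obtain ⟨g, hg, hyg⟩ := hV.exists_basicOpen_le (V := U i) ⟨y, hi⟩ hy
    exact ⟨g, hyg, ampleOn_mono hL (h i) (f.preimage_mono hg)
      (f.isCompact_preimage (hV.basicOpen g).isCompact)⟩
  have hc : IsCompact ((f ⁻¹ᵁ V : X.Opens) : Set X) := f.isCompact_preimage hV.isCompact
  haveI : IsAffine V.toScheme := hV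
  haveI : IsSeparated (f ∣_ V) := by
    choose g hyg hg using fun y : V.toScheme ↦ hsmall y.1 y.2
    refine (IsZariskiLocalAtTarget.iff_of_iSup_eq_top (P := @IsSeparated)
      (fun y ↦ V.ι ⁻¹ᵁ Y.basicOpen (g y)) ?_).mpr fun y ↦ ?_
    · exact top_le_iff.mp fun y _ ↦ Opens.mem_iSup.mpr ⟨y, hyg y⟩
    · rw [(MorphismProperty.arrow_mk_iso_iff @IsSeparated
        (morphismRestrictRestrict f V (V.ι ⁻¹ᵁ Y.basicOpen (g y))))]
      have e : V.ι ''ᵁ (V.ι ⁻¹ᵁ Y.basicOpen (g y)) = Y.basicOpen (g y) := by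
        rw [Scheme.Hom.image_preimage_eq_opensRange_inf, Scheme.Opens.opensRange_ι,
          inf_eq_right.mpr (Y.basicOpen_le _)]
      rw [e]
      haveI := isSeparated_of_ampleOn hL (hg y)
      haveI : IsSeparated ((f ∣_ Y.basicOpen (g y)) ≫ terminal.from _) := by
        rw [terminal.hom_ext ((f ∣_ Y.basicOpen (g y)) ≫ terminal.from _) (terminal.from _)]
        infer_instance
      exact IsSeparated.of_comp (f ∣_ Y.basicOpen (g y)) (terminal.from _)
  haveI : QuasiSeparatedSpace (f ⁻¹ᵁ V).toScheme :=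
    quasiSeparatedSpace_of_quasiSeparated (f ∣_ V)
  have hqs : IsQuasiSeparated ((f ⁻¹ᵁ V : X.Opens) : Set X) :=
    (isQuasiSeparated_iff_quasiSeparatedSpace _ (f ⁻¹ᵁ V).2).mpr ‹_›
  refine ⟨hc, fun x hx ↦ ?_⟩
  obtain ⟨g, hxg, hg⟩ := hsmall (f x) hx
  obtain ⟨n, σ, hxσ, haff⟩ := hg.2 x hxg
  obtain ⟨ρ, hρ⟩ := exists_locus_eq (isInvertible_tensorPow hL _) hc hqs (f.app V g)
    (Scheme.preimage_basicOpen f g) σ
  exact ⟨n, ρ, hρ ▸ ⟨hxσ, haff⟩⟩

/-- An ample module is ample relative to every quasi-compact morphism. -/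
theorem isRelAmple_of_isAmple (f : X ⟶ Y) [QuasiCompact f] (h : CohB1.IsAmple L) :
    RelAmple.IsRelAmple f L :=
  isRelAmple_iff.mpr ⟨inferInstance, h.1, fun V ↦ ampleOn_mono h.1 ((ampleOn_top_iff h.1).mpr h)
    le_top (f.isCompact_preimage V.2.isCompact)⟩

theorem isRelAmple_iff_isAmple [IsAffine Y] (f : X ⟶ Y) [QuasiCompact f] :
    RelAmple.IsRelAmple f L ↔ CohB1.IsAmple L := by
  refine ⟨fun h ↦ ?_, isRelAmple_of_isAmple f⟩
  obtain ⟨-, hL, h'⟩ := isRelAmple_iff.mp h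
  exact (ampleOn_top_iff hL).mp (h' ⟨⊤, isAffineOpen_top Y⟩)

/-- It suffices to check relative ampleness on one cover. -/
theorem isRelAmple_of_cover (f : X ⟶ Y) [QuasiCompact f] {ι : Type*} (U : ι → Y.Opens)
    (hU : ⊤ ≤ iSup U) (hL : PicF.IsInvertible L) (h : ∀ i, AmpleOn L (f ⁻¹ᵁ U i)) :
    RelAmple.IsRelAmple f L :=
  isRelAmple_iff.mpr ⟨inferInstance, hL, fun V ↦
    ampleOn_of_cover f hL V.2 U (le_top.trans hU) h⟩

end Groth.Agent.AmpleLib

end
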