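import Groth.Agent.AmpleLib.GlobGen

/-!
# Consequences of global generation; contraction of twisted sections
-/

set_option autoImplicit false
set_option linter.style.haveILetI false
universe u

open CategoryTheory Limits AlgebraicGeometry Opposite TopologicalSpace

noncomputable section

namespace Groth.Agent.AmpleLib

open Groth.Agent.QCoh Groth.Agent.Props.GenLocus Groth.Agent.Props.GenTensor Groth.Agent.Props.GenProd
open Groth.Agent.PullStalk.Sky

variable {X : Scheme.{u}} {L : X.Modules}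

/-- A linear map killing the global sections kills a globally generated module at `x`. -/
theorem germ_mem_span_of_epi {G : X.Modules} {ι : Type*} [HasCoproduct fun _ : ι ↦ Coh.structureModule X]
    (p : (∐ fun _ : ι ↦ Coh.structureModule X) ⟶ G) [Epi p] {V : X.Opens} (m : Γ(G, V))
    (x : X) (hx : x ∈ V) :
    germM G V x hx m ∈ Submodule.span (X.presheaf.stalk x)
      (Set.range fun σ : Γ(G, ⊤) ↦ germM G ⊤ x trivial σ) := by
  set S := Submodule.span (X.presheaf.stalk x)
    (Set.range fun σ : Γ(G, ⊤) ↦ germM G ⊤ x trivial σ) with hS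
  have h0 : ∀ i, (Sigma.ι _ i ≫ p) ≫ toSky S.mkQ = 0 := by
    intro i
    refine Scheme.Modules.hom_ext _ _ fun W ↦ ?_
    ext a
    funext h
    show (show PLift (x ∈ W) → _ from (toSky S.mkQ).app W ((Sigma.ι _ i ≫ p).app W a)) h = 0
    rw [toSky_app]
    refine (Submodule.Quotient.mk_eq_zero S).mpr ?_
    rw [app_eq, germM_smul]
    let q : Coh.structureModule X ⟶ G := Sigma.ι (fun _ : ι ↦ Coh.structureModule X) i ≫ p
    show _ • germM G W x h.down (sec q W) ∈ S
    rw [← sec_res q (le_top : W ≤ ⊤)]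
    refine S.smul_mem _ (Submodule.subset_span ⟨sec q ⊤, ?_⟩)
    exact (G.presheaf.germ_res_apply (homOfLE (le_top : W ≤ ⊤)) x h.down _).symm
  have h1 : toSky S.mkQ = 0 := by
    refine (cancel_epi p).mp ?_
    rw [comp_zero]
    refine Sigma.hom_ext _ _ fun i ↦ ?_
    rw [comp_zero]
    exact (Category.assoc _ _ _).symm.trans (h0 i)
  have h2 := toSky_app S.mkQ V m ⟨hx⟩
  rw [h1] at h2
  exact (Submodule.Quotient.mk_eq_zero S).mp h2.symm

/-- Membership in the span of germs of sections over `O` holds on a neighbourhood. -/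
theorem exists_res_mem_span_on {M : X.Modules} {O V : X.Opens} (m : Γ(M, V)) {x : X} (hxO : x ∈ O)
    (hx : x ∈ V)
    (h : germM M V x hx m ∈ Submodule.span (X.presheaf.stalk x)
      (Set.range fun σ : Γ(M, O) ↦ germM M O x hxO σ)) :
    ∃ (W : X.Opens) (hW : W ≤ V) (hWO : W ≤ O), x ∈ W ∧
      res M hW m ∈ Submodule.span Γ(X, W) (Set.range fun σ : Γ(M, O) ↦ res M hWO σ) := by
  let S := fun (W : X.Opens) (hWO : W ≤ O) ↦
    Submodule.span Γ(X, W) (Set.range fun σ : Γ(M, O) ↦ res M hWO σ)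
  have hS : ∀ {W W' : X.Opens} (hle : W' ≤ W) (hWO : W ≤ O) (n : Γ(M, W)),
      n ∈ S W hWO → res M hle n ∈ S W' (hle.trans hWO) := by
    intro W W' hle hWO n hn
    induction hn using Submodule.span_induction with
    | mem z hz =>
      obtain ⟨σ, rfl⟩ := hz
      exact Submodule.subset_span ⟨σ, (res_res M hWO hle σ).symm⟩
    | zero => rw [map_zero]; exact zero_mem _
    | add z z' _ _ h1 h2 => rw [map_add]; exact add_mem h1 h2
    | smul b z _ h1 => rw [res_smul]; exact Submodule.smul_mem _ _ h1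
  suffices key : ∀ z ∈ Submodule.span (X.presheaf.stalk x)
      (Set.range fun σ : Γ(M, O) ↦ germM M O x hxO σ),
      ∃ (W : X.Opens) (hWO : W ≤ O) (hxW : x ∈ W) (n : Γ(M, W)),
        n ∈ S W hWO ∧ germM M W x hxW n = z by
    obtain ⟨W, hWO, hxW, n, hn, hgn⟩ := key _ h
    obtain ⟨P, hxP, i₁, i₂, he⟩ := M.presheaf.germ_eq x hxW hx n m hgn
    refine ⟨P, i₂.le, i₁.le.trans hWO, hxP, ?_⟩
    rw [show res M i₂.le m = res M i₁.le n from he.symm]
    exact hS i₁.le hWO n hn
  intro z hz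
  induction hz using Submodule.span_induction with
  | mem z hz =>
    obtain ⟨σ, rfl⟩ := hz
    exact ⟨O, le_rfl, hxO, σ, Submodule.subset_span ⟨σ, res_self M le_rfl σ⟩, rfl⟩
  | zero => exact ⟨O, le_rfl, hxO, 0, zero_mem _, map_zero _⟩
  | add z z' _ _ h1 h2 =>
    obtain ⟨W, hWO, hxW, n, hn, rfl⟩ := h1
    obtain ⟨W', hWO', hxW', n', hn', rfl⟩ := h2
    refine ⟨W ⊓ W', inf_le_left.trans hWO, ⟨hxW, hxW'⟩,
      res M inf_le_left n + res M inf_le_right n',
      add_mem (hS _ hWO n hn) (hS _ hWO' n' hn'), ?_⟩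
    rw [germM, map_add]
    exact congrArg₂ (· + ·) (M.presheaf.germ_res_apply _ x _ n) (M.presheaf.germ_res_apply _ x _ n')
  | smul r z _ h1 =>
    obtain ⟨W, hWO, hxW, n, hn, rfl⟩ := h1
    obtain ⟨W', hxW', r, rfl⟩ := X.presheaf.exists_germ_eq (x := x) r
    refine ⟨W ⊓ W', inf_le_left.trans hWO, ⟨hxW, hxW'⟩, rres inf_le_right r • res M inf_le_left n,
      Submodule.smul_mem _ _ (hS _ hWO n hn), ?_⟩
    rw [germM_smul]
    exact congrArg₂ (· • ·) (X.presheaf.germ_res_apply _ x _ r) (M.presheaf.germ_res_apply _ x _ n)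

/-- Membership in the span of germs of global sections holds on a neighbourhood. -/
theorem exists_res_mem_span {M : X.Modules} {V : X.Opens} (m : Γ(M, V)) {x : X} (hx : x ∈ V)
    (h : germM M V x hx m ∈ Submodule.span (X.presheaf.stalk x)
      (Set.range fun σ : Γ(M, ⊤) ↦ germM M ⊤ x trivial σ)) :
    ∃ (W : X.Opens) (hW : W ≤ V), x ∈ W ∧
      res M hW m ∈ Submodule.span Γ(X, W) (Set.range fun σ : Γ(M, ⊤) ↦ res M le_top σ) :=
  let ⟨W, hW, _, hxW, h'⟩ := exists_res_mem_span_on m (O := ⊤) trivial hx h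
  ⟨W, hW, hxW, h'⟩

/-- A form not vanishing at `x` on a generated module does not vanish on some global section. -/
theorem exists_basicOpen_of_mem_span {M : X.Modules} {W : X.Opens} (φ : Γ(M, W) →+ Γ(X, W))
    (hφ : ∀ (a : Γ(X, W)) (n : Γ(M, W)), φ (a • n) = a * φ n) {x : X} (hxW : x ∈ W) {T : Set Γ(M, W)}
    (n : Γ(M, W)) (hn : n ∈ Submodule.span Γ(X, W) T) (hu : x ∈ X.basicOpen (φ n)) :
    ∃ σ ∈ T, x ∈ X.basicOpen (φ σ) := by
  by_contra hne
  let I : Ideal Γ(X, W) :=
    (IsLocalRing.maximalIdeal (X.presheaf.stalk x)).comap (X.presheaf.germ W x hxW).hom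
  have hI : ∀ {a : Γ(X, W)}, a ∈ I ↔ x ∉ X.basicOpen a := fun {a} ↦ by
    rw [X.mem_basicOpen a x hxW]; exact Iff.rfl
  suffices φ n ∈ I from hI.mp this hu
  clear hu
  induction hn using Submodule.span_induction with
  | mem z hz => exact hI.mpr fun h ↦ hne ⟨z, hz, h⟩
  | zero => rw [map_zero]; exact zero_mem _
  | add z z' _ _ h1 h2 => rw [map_add]; exact add_mem h1 h2
  | smul b z _ h1 => rw [hφ]; exact Ideal.mul_mem_left _ _ h1

/-- The coefficient of a twisted section in a trivialisation. -/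
def coF {M : X.Modules} {K : ℕ} {W : X.Opens} {e : Γ(L, W)} (he : IsGen L W e)
    (z : Γ(CohB1.tensorMod M (CohB1.tensorPow L K), W)) : Γ(M, W) :=
  (Equiv.ofBijective _ (tmul_gen_bijective (isGen_pw he K) M le_rfl)).symm z

lemma coF_eq {M : X.Modules} {K : ℕ} {W : X.Opens} {e : Γ(L, W)} (he : IsGen L W e)
    (z : Γ(CohB1.tensorMod M (CohB1.tensorPow L K), W)) {f : Γ(M, W)}
    (hf : tmul f (pw L e K) = z) : coF he z = f := by
  refine (Equiv.symm_apply_eq _).mpr ?_
  rw [Equiv.ofBijective_apply, res_self]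
  exact hf.symm

lemma coF_spec {M : X.Modules} {K : ℕ} {W : X.Opens} {e : Γ(L, W)} (he : IsGen L W e)
    (z : Γ(CohB1.tensorMod M (CohB1.tensorPow L K), W)) : tmul (coF he z) (pw L e K) = z := by
  have h := (Equiv.ofBijective _ (tmul_gen_bijective (isGen_pw he K) M le_rfl)).apply_symm_apply z
  rw [Equiv.ofBijective_apply] at h
  refine Eq.trans ?_ h
  exact congrArg (tmul _) (res_self _ le_rfl _).symm

/-- Contraction of a twisted section over `O` along a morphism `φ : M ⟶ O_X`. -/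
theorem exists_contract_on (hL : PicF.IsInvertible L) {M : X.Modules}
    (φ : M ⟶ Coh.structureModule X) {K : ℕ} {O : X.Opens}
    (ρ : Γ(CohB1.tensorMod M (CohB1.tensorPow L K), O)) :
    ∃ t : Γ(CohB1.tensorPow L K, O), ∀ (W : X.Opens) (hWO : W ≤ O) (e : Γ(L, W))
      (he : IsGen L W e), co K t hWO he = φ.app W (coF he (res _ hWO ρ)) := by
  obtain ⟨t, ht⟩ := exists_of_coeff hL K O
    (fun W hWO e he ↦ (show Γ(X, W) from φ.app W (coF he (res _ hWO ρ))))
    (fun W W' h h' e he ↦ by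
      have h1 := congrArg (res _ h') (coF_spec he (res _ h ρ))
      rw [res_tmul, res_pw, res_res] at h1
      rw [coF_eq (he.restrict h') _ h1, app_res]
      rfl)
    (fun W h e he v hv ↦ by
      have h1 := coF_spec (he.smul_unit hv) (res _ h ρ)
      rw [pw_smul, tmul_smul_right, ← tmul_smul_left] at h1
      rw [coF_eq he _ h1, Scheme.Modules.Hom.app_smul]
      rfl)
  exact ⟨t, fun W hWO e he ↦ ht W hWO e he⟩

/-- Contraction of a global twisted section. -/
theorem exists_contract (hL : PicF.IsInvertible L) {M : X.Modules} (φ : M ⟶ Coh.structureModule X)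
    {K : ℕ} (ρ : Γ(CohB1.tensorMod M (CohB1.tensorPow L K), ⊤)) :
    ∃ t : Γ(CohB1.tensorPow L K, ⊤), ∀ (W : X.Opens) (e : Γ(L, W)) (he : IsGen L W e),
      co K t le_top he = φ.app W (coF he (res _ le_top ρ)) :=
  let ⟨t, ht⟩ := exists_contract_on hL φ ρ
  ⟨t, fun W e he ↦ ht W le_top e he⟩

end Groth.Agent.AmpleLib

end
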