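import Groth.Agent.AmpleLib.Tensor

/-!
# Ampleness for compositions: `L ⊗ f^*K^n`
-/

set_option autoImplicit false
set_option linter.style.haveILetI false
universe u

open CategoryTheory Limits AlgebraicGeometry Opposite TopologicalSpace

noncomputable section

namespace Groth.Agent.AmpleLib

open Groth.Agent.QCoh Groth.Agent.Props.GenLocus Groth.Agent.Props.GenTensor Groth.Agent.Props.GenProd
open Groth.Agent.Props.GenPull

variable {X Y : Scheme.{u}}

theorem ampleOn_of_iso {L L' : X.Modules} (e : L ≅ L') {O : X.Opens} (h : AmpleOn L O) :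
    AmpleOn L' O :=
  ⟨h.1, fun x hx ↦ let ⟨n, σ, hxσ, haff⟩ := h.2 x hx
    ⟨n, (tensorPowIso e (n + 1)).hom.app O σ, by rw [locus_app_iso]; exact ⟨hxσ, haff⟩⟩⟩

theorem exists_iso_tensor_pow_add {M P : X.Modules} (hM : PicF.IsInvertible M)
    (hP : PicF.IsInvertible P) (j k : ℕ) :
    Nonempty (CohB1.tensorMod (CohB1.tensorMod M (CohB1.tensorPow P j)) (CohB1.tensorPow P k) ≅
      CohB1.tensorMod M (CohB1.tensorPow P (j + k))) := by
  let ι := {p : Σ U : X.Opens, Γ(M, U) × Γ(P, U) // IsGen M p.1 p.2.1 ∧ IsGen P p.1 p.2.2}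
  obtain ⟨φ, -⟩ := exists_iso_of_gen (fun i : ι ↦ i.1.1) (by
      intro x _
      obtain ⟨U, e, hxU, he⟩ := exists_isGen hM x
      obtain ⟨U', e', hxU', he'⟩ := exists_isGen hP x
      exact Opens.mem_iSup.mpr ⟨(⟨⟨U ⊓ U', res M inf_le_left e, res P inf_le_right e'⟩,
        he.restrict _, he'.restrict _⟩ : ι), hxU, hxU'⟩)
    (fun i ↦ tmul (tmul i.1.2.1 (pw P i.1.2.2 j)) (pw P i.1.2.2 k))
    (fun i ↦ isGen_tmul (isGen_tmul i.2.1 (isGen_pw i.2.2 j)) (isGen_pw i.2.2 k))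
    (fun i ↦ tmul i.1.2.1 (pw P i.1.2.2 (j + k)))
    (fun i ↦ isGen_tmul i.2.1 (isGen_pw i.2.2 (j + k))) (by
      rintro ⟨⟨U, e, e'⟩, he, he'⟩ ⟨⟨U', d, d'⟩, hd, hd'⟩ V hi hj w hw
      obtain ⟨u, hu, -⟩ := he.exists_eq hi (res M hj d)
      obtain ⟨u', hu', -⟩ := he'.exists_eq hi (res P hj d')
      dsimp only at *
      rw [res_tmul, res_tmul, res_tmul, res_tmul, hu, res_pw_eq hi hj hu' j, res_pw_eq hi hj hu' k]
        at hw
      simp only [tmul_smul_left, tmul_smul_right, smul_smul] at hw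
      rw [← res_tmul, ← res_tmul] at hw
      have hwu := (isGen_tmul (isGen_tmul he (isGen_pw he' j)) (isGen_pw he' k)).injective hi hw
      rw [res_tmul, res_tmul, hu, res_pw_eq hi hj hu' (j + k), tmul_smul_left, tmul_smul_right,
        smul_smul, ← hwu, pow_add]
      congr 1
      ring)
  exact ⟨φ⟩

/-- The pulled back section generates exactly over the preimage of the locus. -/
theorem locus_pb (f : X ⟶ Y) {M : Y.Modules} (hM : PicF.IsInvertible M) {O : Y.Opens}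
    (σ : Γ(M, O)) : locus (pb f σ) = f ⁻¹ᵁ locus σ := by
  ext x
  by_cases hxO : f x ∈ O
  · obtain ⟨U, e, hxU, he⟩ := exists_isGen hM (f x)
    have he' := he.restrict (inf_le_left : U ⊓ O ≤ U)
    obtain ⟨c, hc, -⟩ := he'.exists_eq le_rfl (res M (inf_le_right : U ⊓ O ≤ O) σ)
    rw [res_self] at hc
    have h1 := congrArg (LFFrame.unitSec f M (U ⊓ O)) hc
    rw [LFFrame.unitSec_smul, LFFrame.unitSec_res] at h1
    have h2 := locus_inf (f.preimage_mono (inf_le_right : U ⊓ O ≤ O)) (isGen_pb f he') (pb f σ)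
      (f := f.app _ c) h1
    rw [← Scheme.preimage_basicOpen, ← locus_inf inf_le_right he' σ hc] at h2
    have h3 := congrArg (fun V : X.Opens ↦ x ∈ V) h2
    have hxW : x ∈ f ⁻¹ᵁ (U ⊓ O) := ⟨hxU, hxO⟩
    simp [hxW, hxU, hxO] at h3
    exact h3
  · exact ⟨fun h ↦ absurd (locus_le (pb f σ) h) hxO, fun h ↦ absurd (locus_le σ h) hxO⟩

theorem exists_iso_pullback_tensorPow (f : X ⟶ Y) {K : Y.Modules} (hK : PicF.IsInvertible K)
    (k : ℕ) :
    Nonempty ((Scheme.Modules.pullback f).obj (CohB1.tensorPow K k) ≅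
      CohB1.tensorPow ((Scheme.Modules.pullback f).obj K) k) := by
  let ι := {p : Σ U : Y.Opens, Γ(K, U) // IsGen K p.1 p.2}
  obtain ⟨φ, -⟩ := exists_iso_of_gen (fun i : ι ↦ f ⁻¹ᵁ i.1.1) (by
      intro x _
      obtain ⟨U, e, hxU, he⟩ := exists_isGen hK (f x)
      exact Opens.mem_iSup.mpr ⟨(⟨⟨U, e⟩, he⟩ : ι), hxU⟩)
    (fun i ↦ pb f (pw K i.1.2 k)) (fun i ↦ isGen_pb f (isGen_pw i.2 k))
    (fun i ↦ pw _ (pb f i.1.2) k) (fun i ↦ isGen_pw (isGen_pb f i.2) k) (by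
      rintro ⟨⟨U, e⟩, he⟩ ⟨⟨U', e'⟩, he'⟩ V hi hj w hw
      obtain ⟨u, hu, -⟩ := (he.restrict (inf_le_left : U ⊓ U' ≤ U)).exists_eq le_rfl
        (res K (inf_le_right : U ⊓ U' ≤ U') e')
      rw [res_self] at hu
      have hV : V ≤ f ⁻¹ᵁ (U ⊓ U') := fun z hz ↦ ⟨hi hz, hj hz⟩
      have hlin : res ((Scheme.Modules.pullback f).obj K) hj (pb f e') =
          rres hV (f.app _ u) • res ((Scheme.Modules.pullback f).obj K) hi (pb f e) := by
        have h1 := congrArg (LFFrame.unitSec f K (U ⊓ U')) hu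
        rw [LFFrame.unitSec_smul, LFFrame.unitSec_res, LFFrame.unitSec_res] at h1
        have h2 := congrArg (res _ hV) h1
        rwa [res_smul, res_res, res_res] at h2
      have hpw : res _ hj (pb f (pw K e' k)) = rres hV (f.app _ u) ^ k • res _ hi (pb f (pw K e k)) := by
        have h0 : res _ (inf_le_right : U ⊓ U' ≤ U') (pw K e' k) =
            u ^ k • res _ (inf_le_left : U ⊓ U' ≤ U) (pw K e k) := res_pw_eq _ _ hu k
        have h1 := congrArg (LFFrame.unitSec f _ (U ⊓ U')) h0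
        rw [LFFrame.unitSec_smul, LFFrame.unitSec_res, LFFrame.unitSec_res] at h1
        have h2 := congrArg (res _ hV) h1
        rwa [res_smul, res_res, res_res, map_pow, map_pow] at h2
      dsimp only at *
      rw [hpw] at hw
      have hwu := (isGen_pb f (isGen_pw he k)).injective hi hw
      rw [res_pw_eq hi hj hlin k, hwu])
  exact ⟨φ⟩

/-- On the preimage of an open on which `K` is ample, `L ⊗ (f^*K)^n` is eventually ample. -/
theorem eventually_ampleOn_comp (f : X ⟶ Y) [QuasiCompact f] [QuasiSeparated f] {L : X.Modules}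
    {K : Y.Modules} (hL : PicF.IsInvertible L) (hK : PicF.IsInvertible K)
    (hLV : ∀ V : Y.affineOpens, AmpleOn L (f ⁻¹ᵁ V.1)) {O : Y.Opens} (hKO : AmpleOn K O)
    (hqs : IsQuasiSeparated (O : Set Y)) :
    ∃ N : ℕ, ∀ n, N ≤ n → AmpleOn (CohB1.tensorMod L
      (CohB1.tensorPow ((Scheme.Modules.pullback f).obj K) n)) (f ⁻¹ᵁ O) := by
  classical
  set P := (Scheme.Modules.pullback f).obj K with hPdef
  have hP : PicF.IsInvertible P := PicCl.isInvertible_pullback f hK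
  obtain ⟨r, k, κ, U, hk, hU, hUO, hUa, he, hcov⟩ := exists_common_cover_on hK hKO
  choose e he using he
  have hcO : IsCompact ((f ⁻¹ᵁ O : X.Opens) : Set X) := f.isCompact_preimage hKO.1
  have hqO : IsQuasiSeparated ((f ⁻¹ᵁ O : X.Opens) : Set X) := f.isQuasiSeparated_preimage hqs
  obtain ⟨φ⟩ := exists_iso_pullback_tensorPow f hK k
  let s : Fin r → Γ(CohB1.tensorPow P k, f ⁻¹ᵁ O) := fun i ↦ φ.hom.app _ (pb f (κ i))
  have hs : ∀ i, f ⁻¹ᵁ U i = locus (s i) := fun i ↦ by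
    rw [locus_app_iso, locus_pb f (isInvertible_tensorPow hK k), hU]
  have hpt : ∀ x : (f ⁻¹ᵁ O : X.Opens), ∃ (T : X.Opens) (N : ℕ), x.1 ∈ T ∧ IsAffineOpen T ∧
      ∀ n, N ≤ n → ∃ (b : ℕ) (σ : Γ(CohB1.tensorPow (CohB1.tensorMod L (CohB1.tensorPow P n)) (b + 1),
        f ⁻¹ᵁ O)), locus σ = T := by
    rintro ⟨x, hx⟩
    obtain ⟨i, hi⟩ := Opens.mem_iSup.mp (hcov hx)
    obtain ⟨a, σ, hxσ, haff⟩ := (hLV ⟨U i, hUa i⟩).2 x hi
    obtain ⟨b, hb⟩ : ∃ b, (a + 1) * k = b + 1 :=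
      ⟨(a + 1) * k - 1, (Nat.succ_pred_eq_of_pos (Nat.mul_pos a.succ_pos hk)).symm⟩
    obtain ⟨σ', hσ'⟩ := exists_pow_section hL σ hk (b + 1) hb.symm
    have hle : f ⁻¹ᵁ U i ≤ f ⁻¹ᵁ O := f.preimage_mono (hUO i)
    obtain ⟨N, hN⟩ := exists_twist_on (ProjTwist.isQCoh_of_isInvertible (isInvertible_tensorPow hL _))
      hP hcO hqO (s i) (hs i) hle (isGen_pb f (he i)) σ' 0
    refine ⟨locus σ, N + 1, hxσ, haff, fun n hn ↦ ⟨b, ?_⟩⟩
    obtain ⟨M, hM⟩ : ∃ M, n * (a + 1) = M + 1 := ⟨n * (a + 1) - 1,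
      (Nat.succ_pred_eq_of_pos (Nat.mul_pos (by omega) a.succ_pos)).symm⟩
    have hNM : N ≤ M := by
      have : n ≤ n * (a + 1) := Nat.le_mul_of_pos_right n a.succ_pos
      omega
    obtain ⟨ρ, hρ⟩ := hN M hNM
    obtain ⟨φ₁⟩ := exists_iso_tensor_pow_add (isInvertible_tensorPow hL (b + 1)) hP (0 + k * M) k
    have hdeg : 0 + k * M + k = n * (b + 1) := by
      rw [← hb, ← Nat.mul_assoc, hM, Nat.add_mul, Nat.one_mul, zero_add, Nat.mul_comm]
    let φ₁' : CohB1.tensorMod (CohB1.tensorMod (CohB1.tensorPow L (b + 1))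
        (CohB1.tensorPow P (0 + k * M))) (CohB1.tensorPow P k) ≅
        CohB1.tensorMod (CohB1.tensorPow L (b + 1)) (CohB1.tensorPow P (n * (b + 1))) :=
      φ₁ ≪≫ eqToIso (by rw [hdeg])
    obtain ⟨φ₂, -⟩ := exists_iso_tensorPow_mul hP n (b + 1)
    obtain ⟨φ₃, -⟩ := exists_iso_tensorPow_tensor hL (isInvertible_tensorPow hP n) (b + 1)
    let Φ := φ₁' ≪≫ PicGrp.tensorModIso (Iso.refl _) φ₂.symm ≪≫ φ₃
    refine ⟨Φ.hom.app _ (tmul ρ (s i)), ?_⟩
    rw [locus_app_iso, locus_tmul (isInvertible_tensorMod (isInvertible_tensorPow hL _)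
      (isInvertible_tensorPow hP _)) (isInvertible_tensorPow hP _), ← hs i, ← locus_res hle, hρ,
      tmul_smul_left, locus_smul (isInvertible_tensorMod (isInvertible_tensorPow hL _)
      (isInvertible_tensorPow hP _)), locus_tmul (isInvertible_tensorPow hL _)
      (isInvertible_tensorPow hP _), hσ']
    have hgen : locus (pw P (pb f (e i)) (0 + k * M)) = f ⁻¹ᵁ U i :=
      le_antisymm (locus_le _) (le_locus le_rfl (by rw [res_self]; exact isGen_pw (isGen_pb f (he i)) _))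
    have hc : X.basicOpen (co k (s i) hle (isGen_pb f (he i))) = f ⁻¹ᵁ U i := by
      rw [← locus_inf_eq hle (isGen_pb f (he i)), ← hs i, inf_idem]
    rw [hgen, inf_eq_left.mpr (locus_le σ)]
    refine inf_eq_right.mpr ((locus_le σ).trans ?_)
    rcases Nat.eq_zero_or_pos M with h0 | h0
    · rw [h0, pow_zero, Scheme.basicOpen_of_isUnit _ isUnit_one]
    · rw [Scheme.basicOpen_pow _ _ h0, hc]
  choose T N hxT hTa hσ using hpt
  obtain ⟨t, ht⟩ := hcO.elim_finite_subcover (fun x ↦ (T x : Set X)) (fun x ↦ (T x).2)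
    fun x hx ↦ Set.mem_iUnion.mpr ⟨⟨x, hx⟩, hxT _⟩
  refine ⟨t.sup N, fun n hn ↦ ⟨hcO, fun x hx ↦ ?_⟩⟩
  obtain ⟨y, hy, hxy⟩ := Set.mem_iUnion₂.mp (ht hx)
  obtain ⟨b, σ, hbσ⟩ := hσ y n ((Finset.le_sup hy).trans hn)
  exact ⟨b, σ, hbσ ▸ ⟨hxy, hTa y⟩⟩

end Groth.Agent.AmpleLib

end
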