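import Groth.Agent.AmpleLib.Twist
import Groth.Agent.QCoh.FiniteType

/-!
# Twists of finite type quasi-coherent modules by high powers of an ample module are globally generated
-/

set_option autoImplicit false
set_option linter.style.haveILetI false
universe u

open CategoryTheory Limits AlgebraicGeometry Opposite TopologicalSpace

noncomputable section

namespace Groth.Agent.AmpleLib

open Groth.Agent.QCoh Groth.Agent.Props.GenLocus Groth.Agent.Props.GenTensor Groth.Agent.Props.GenProd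

variable {X : Scheme.{u}} {L : X.Modules}

/-- Finitely many affine loci of sections of one positive power of an ample module trivialise it. -/
theorem exists_common_cover (h : CohB1.IsAmple L) :
    ∃ (r k : ℕ) (s : Fin r → (Coh.structureModule X ⟶ CohB1.tensorPow L k)) (U : Fin r → X.Opens),
      0 < k ∧ (∀ i, U i = CohB1.genLocus _ (s i)) ∧ (∀ i, IsAffineOpen (U i)) ∧
      (∀ i, ∃ e : Γ(L, U i), IsGen L (U i) e) ∧ ⊤ ≤ iSup U := by
  classical
  haveI := h.2.1
  have key : ∀ x : X, ∃ (n : ℕ) (s : Coh.structureModule X ⟶ CohB1.tensorPow L (n + 1))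
      (U : X.Opens), U = CohB1.genLocus _ s ∧ IsAffineOpen U ∧ x ∈ U ∧
        ∃ e : Γ(L, U), IsGen L U e := by
    intro x
    obtain ⟨V, e, hxV, he⟩ := exists_isGen h.1 x
    obtain ⟨W, hW, hxW, hWV⟩ := exists_isAffineOpen_mem_and_subset (X := X) (x := x) (U := V) hxV
    obtain ⟨U, ⟨n, s, rfl⟩, hxU, hUW⟩ :=
      (Opens.isBasis_iff_nbhd.mp (Props.GenExt.isBasis_of_isAmple h)) hxW
    exact ⟨n, s, _, rfl, isAffineOpen_genLocus_of_le (isInvertible_tensorPow h.1 _) s hW hUW, hxU,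
      _, he.restrict (hUW.trans hWV)⟩
  choose n s U hU hUa hxU he using key
  obtain ⟨t, ht⟩ := isCompact_univ.elim_finite_subcover (fun x : X ↦ (U x : Set X))
    (fun x ↦ (U x).2) fun x _ ↦ Set.mem_iUnion.mpr ⟨x, hxU x⟩
  let k := ∏ x ∈ t, (n x + 1)
  let p : Fin t.card → X := fun i ↦ t.equivFin.symm i
  have hdvd : ∀ i, ∃ a, k = (n (p i) + 1) * a ∧ 0 < a := fun i ↦ by
    obtain ⟨a, ha⟩ := Finset.dvd_prod_of_mem (fun x ↦ n x + 1) (t.equivFin.symm i).2
    exact ⟨a, ha, Nat.pos_of_mul_pos_left (ha ▸ Finset.prod_pos fun x _ ↦ Nat.succ_pos (n x))⟩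
  choose a ha hapos using hdvd
  choose s' hs' using fun i ↦ exists_pow h.1 (s (p i)) (a i) k (ha i)
  refine ⟨t.card, k, s', fun i ↦ U (p i), Finset.prod_pos fun x _ ↦ Nat.succ_pos _,
    fun i ↦ (genLocus_pow h.1 (s (p i)) (hapos i) (s' i) (hs' i)).trans (hU _).symm |>.symm,
    fun i ↦ hUa _, fun i ↦ he _, fun x _ ↦ ?_⟩
  obtain ⟨y, hy, hxy⟩ := Set.mem_iUnion₂.mp (ht (Set.mem_univ x))
  refine Opens.mem_iSup.mpr ⟨t.equivFin ⟨y, hy⟩, ?_⟩
  simp only [p, Equiv.symm_apply_apply]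
  exact hxy

theorem eventually_globallyGenerated (h : CohB1.IsAmple L) {F : X.Modules} (hF : Coh.IsQCoh F)
    (hFT : SheafOfModules.IsFiniteType.{u} F) :
    ∃ n₀ : ℕ, ∀ n, n₀ ≤ n →
      Curv2.IsGloballyGenerated (CohB1.tensorMod F (CohB1.tensorPow L n)) := by
  classical
  haveI := h.2.1
  haveI := isSeparated_of_isAmple h
  haveI : F.IsQuasicoherent := hF
  haveI := hFT
  obtain ⟨r, k, s, U, hk, hU, hUa, he, hcov⟩ := exists_common_cover h
  choose e he using he
  have hfg : ∀ i, ∃ (d : ℕ) (σ : Fin d → Γ(F, U i)), Submodule.span Γ(X, U i) (Set.range σ) = ⊤ :=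
    fun i ↦ haveI := finite_sections_of_isFiniteType F (hUa i)
      Module.Finite.exists_fin
  choose d σ hσ using hfg
  choose N hN using fun p : Σ i, Fin (d i) × Fin k ↦
    exists_twist hF h.1 (s p.1) (hU p.1) (he p.1) (σ p.1 p.2.1) p.2.2
  obtain ⟨N₀, hN₀⟩ : ∃ N₀, ∀ p, N p ≤ N₀ := Finite.exists_le N
  refine ⟨k * N₀, fun n hn ↦ ?_⟩
  obtain ⟨l, M, hl, rfl⟩ : ∃ l M, l < k ∧ n = l + k * M :=
    ⟨n % k, n / k, Nat.mod_lt _ hk, (Nat.mod_add_div n k).symm⟩
  have hM : N₀ ≤ M := by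
    by_contra hlt
    have : k * (M + 1) ≤ k * N₀ := Nat.mul_le_mul_left k (by omega)
    rw [Nat.mul_succ] at this
    omega
  refine isGloballyGenerated_of_local fun V m x hxV ↦ ?_
  obtain ⟨i, hi⟩ := Opens.mem_iSup.mp (hcov (trivial : x ∈ (⊤ : X.Opens)))
  obtain ⟨g, hg, hxg⟩ := (hUa i).exists_basicOpen_le (V := V) ⟨x, hxV⟩ hi
  have hDU := X.basicOpen_le g
  refine ⟨X.basicOpen g, hg, hxg, ?_⟩
  let P := fun f : Γ(F, X.basicOpen g) ↦ tmul f (res _ hDU (pw L (e i) (l + k * M)))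
  have hP : Function.Bijective P := tmul_gen_bijective (isGen_pw (he i) _) F hDU
  obtain ⟨f, hf⟩ := hP.2 (res _ hg m)
  rw [← hf]
  let S := Submodule.span Γ(X, X.basicOpen g) (Set.range fun τ ↦
    res (CohB1.tensorMod F (CohB1.tensorPow L (l + k * M))) (le_top : X.basicOpen g ≤ ⊤) τ)
  have hgens : ∀ j, P (res F hDU (σ i j)) ∈ S := by
    intro j
    obtain ⟨ρ, hρ⟩ := hN ⟨i, j, ⟨l, hl⟩⟩ M ((hN₀ _).trans hM)
    dsimp only at hρ
    let c := co k (sec (s i) ⊤) le_top (he i)
    have hc : IsUnit (rres hDU c ^ M) := by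
      have e1 : X.basicOpen c = U i := by
        rw [← genLocus_inf_eq (he i), ← hU, inf_idem]
      have hle : X.basicOpen g ≤ X.basicOpen c := e1.symm ▸ hDU
      have h2 := (RingedSpace.isUnit_res_basicOpen _ c).map (rres hle).hom
      have h3 : rres hle (rres (X.basicOpen_le c) c) = rres hDU c := rres_rres _ _ _
      exact ((h3 ▸ h2 : IsUnit (rres hDU c))).pow M
    have h1 := congrArg (res _ hDU) hρ
    simp only [res_res, res_tmul, res_smul, map_pow, tmul_smul_left] at h1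
    obtain ⟨w, hw⟩ := hc
    rw [show P (res F hDU (σ i j)) = (↑w⁻¹ : Γ(X, X.basicOpen g)) • res _ le_top ρ from ?_]
    · exact Submodule.smul_mem _ _ (Submodule.subset_span ⟨ρ, rfl⟩)
    · rw [h1, ← hw, smul_smul, Units.inv_mul, one_smul]
  obtain ⟨a, t, ht⟩ := (isLocalizingAt F (hUa i) g).surj f
  obtain ⟨w, hw⟩ : IsUnit (rres hDU g ^ a) :=
    (RingedSpace.isUnit_res_basicOpen _ g).pow a
  have ht' : res F hDU t = (w : Γ(X, X.basicOpen g)) • f := by rw [ht, hw]
  have hSt : ∀ z ∈ Submodule.span Γ(X, U i) (Set.range (σ i)), P (res F hDU z) ∈ S := by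
    intro z hz
    induction hz using Submodule.span_induction with
    | mem z hz => obtain ⟨j, rfl⟩ := hz; exact hgens j
    | zero =>
      have : P (res F hDU 0) = 0 := by
        simp only [P, map_zero]
        rw [← zero_smul Γ(X, X.basicOpen g) (0 : Γ(F, X.basicOpen g)), tmul_smul_left, zero_smul]
      rw [this]; exact S.zero_mem
    | add z z' _ _ h1 h2 =>
      have : P (res F hDU (z + z')) = P (res F hDU z) + P (res F hDU z') := by
        simp only [P, map_add]
        exact tmul_add_left _ _ _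
      rw [this]; exact S.add_mem h1 h2
    | smul b z _ h1 =>
      have : P (res F hDU (b • z)) = rres hDU b • P (res F hDU z) := by
        simp only [P, res_smul, tmul_smul_left]
      rw [this]; exact S.smul_mem _ h1
  have : P f = (↑w⁻¹ : Γ(X, X.basicOpen g)) • P (res F hDU t) := by
    rw [ht']
    simp only [P, tmul_smul_left, smul_smul, Units.inv_mul, one_smul]
  rw [show P f = _ from this]
  exact S.smul_mem _ (hSt t (hσ i ▸ Submodule.mem_top))

end Groth.Agent.AmpleLib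

end
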