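import Groth.Agent.AmpleLib.Span
import Groth.Agent.IdealSh.IdealMod
import Groth.Agent.Props.SubIdeal
import Groth.Agent.QCoh.Exact

/-!
# Ideal modules and loci of sections coming from twisted ideals
-/

set_option autoImplicit false
set_option linter.style.haveILetI false
universe u

open CategoryTheory Limits AlgebraicGeometry Opposite TopologicalSpace

noncomputable section

namespace Groth.Agent.AmpleLib

open Groth.Agent.QCoh Groth.Agent.Props.GenLocus Groth.Agent.Props.GenTensor Groth.Agent.Props.GenProd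
open Groth.Agent.PullStalk.Sky OmegaSh Groth.Agent.Omega.Stalks

variable {X : Scheme.{u}} {L : X.Modules}

theorem isQCoh_idealMod (I : X.IdealSheafData) : Coh.IsQCoh (ClSub.idealMod I) := by
  haveI : (Coh.structureModule X).IsQuasicoherent := ProjTwist.isQuasicoherent_structureModule X
  haveI : (Coh.structureModule I.subscheme).IsQuasicoherent :=
    ProjTwist.isQuasicoherent_structureModule I.subscheme
  exact QCoh.isQuasicoherent_kernel (ClSub.toSubscheme I)

theorem isFT_idealMod {I : X.IdealSheafData} (hI : BlowUp.IsFiniteTypeIdeal I) :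
    CohB1.IsFT (ClSub.idealMod I) := by
  haveI : (ClSub.idealMod I).IsQuasicoherent := isQCoh_idealMod I
  refine (QCoh.isFiniteType_iff _).mpr fun U hU ↦ ?_
  let T : X.affineOpens := ⟨U, hU⟩
  let φ : Γ(ClSub.idealMod I, U) →ₗ[Γ(X, U)] I.ideal T :=
    { toFun := fun s ↦ ⟨idealSect I U s, IdealSh.IdealMod.sect_mem I T s⟩
      map_add' := fun a b ↦ Subtype.ext (map_add (idealSect I U) a b)
      map_smul' := fun r s ↦ Subtype.ext (idealSect_smul I U r s) }
  have hφ : Function.Bijective φ :=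
    ⟨fun a b h ↦ idealSect_injective I U (congrArg Subtype.val h), fun ⟨t, ht⟩ ↦
      let ⟨s, hs⟩ := IdealSh.IdealMod.exists_sect I U t ((IdealSh.IdealMod.mem_ideal_iff I T t).mp ht)
      ⟨s, Subtype.ext hs⟩⟩
  haveI : Module.Finite Γ(X, U) (I.ideal T) := Module.Finite.iff_fg.mpr (hI T)
  exact Module.Finite.equiv (LinearEquiv.ofBijective φ hφ).symm

lemma exists_affine_gen (hL : PicF.IsInvertible L) (x : X) :
    ∃ (T : X.affineOpens) (e : Γ(L, T.1)), x ∈ T.1 ∧ IsGen L T.1 e := by
  obtain ⟨U, e, hxU, he⟩ := exists_isGen hL x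
  obtain ⟨T, hT, hxT, hTU⟩ := exists_isAffineOpen_mem_and_subset (X := X) (x := x) (U := U) hxU
  exact ⟨⟨T, hT⟩, _, hxT, he.restrict hTU⟩

/-- A generated twist of an ideal gives a locus around any point off the support, avoiding it. -/
theorem exists_locus_of_ideal (hL : PicF.IsInvertible L) (I : X.IdealSheafData) {K : ℕ} {ι : Type*}
    [HasCoproduct fun _ : ι ↦ Coh.structureModule X]
    (p : (∐ fun _ : ι ↦ Coh.structureModule X) ⟶
      CohB1.tensorMod (ClSub.idealMod I) (CohB1.tensorPow L K)) [Epi p] {x : X}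
    (hx : x ∉ (I.support : Set X)) :
    ∃ t : Coh.structureModule X ⟶ CohB1.tensorPow L K,
      x ∈ CohB1.genLocus _ t ∧ Disjoint (I.support : Set X) (CohB1.genLocus _ t : Set X) := by
  obtain ⟨T, e, hxT, he⟩ := exists_affine_gen hL x
  have hnx : x ∉ X.zeroLocus (I.ideal T : Set Γ(X, T.1)) := fun h ↦
    hx (((Scheme.IdealSheafData.mem_support_iff_of_mem (I := I) hxT)).mpr h)
  rw [Scheme.mem_zeroLocus_iff] at hnx
  push Not at hnx
  obtain ⟨g, hg, hxg⟩ := hnx
  obtain ⟨f, hf⟩ := IdealSh.IdealMod.exists_sect I T.1 g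
    ((IdealSh.IdealMod.mem_ideal_iff I T g).mp hg)
  let G := CohB1.tensorMod (ClSub.idealMod I) (CohB1.tensorPow L K)
  obtain ⟨W, hW, hxW, hspan⟩ := exists_res_mem_span (M := G) (tmul f (pw L e K)) hxT
    (germ_mem_span_of_epi p _ x hxT)
  have heW := he.restrict hW
  let φ : Γ(G, W) →+ Γ(X, W) := AddMonoidHom.mk' (fun z ↦ idealSect I W (coF heW z)) fun a b ↦ by
    rw [← map_add]
    congr 1
    exact coF_eq heW _ (by rw [tmul_add_left, coF_spec, coF_spec])
  obtain ⟨_, ⟨ρ, rfl⟩, hρ⟩ := exists_basicOpen_of_mem_span φ (fun a n ↦ by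
      show idealSect I W (coF heW (a • n)) = a * idealSect I W (coF heW n)
      rw [← idealSect_smul]
      congr 1
      exact coF_eq heW _ (by rw [tmul_smul_left, coF_spec]))
    hxW _ hspan (by
      show x ∈ X.basicOpen (idealSect I W (coF heW (res G hW (tmul f (pw L e K)))))
      rw [show coF heW (res G hW (tmul f (pw L e K))) = res _ hW f from
        coF_eq heW _ (by rw [res_tmul, res_pw]), idealSect_map, hf, Scheme.basicOpen_res]
      exact ⟨hxW, hxg⟩)
  obtain ⟨t, ht⟩ := exists_contract hL (ClSub.idealModι I) ρ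
  have hco : ∀ (W : X.Opens) (e : Γ(L, W)) (he : IsGen L W e),
      CohB1.genLocus _ (homOfSec t) ⊓ W = X.basicOpen (idealSect I W (coF he (res G le_top ρ))) := by
    intro W e he
    rw [genLocus_inf_eq he, sec_homOfSec, res_self, ht W e he]
    rfl
  refine ⟨homOfSec t, ?_, Set.disjoint_left.mpr fun y hy hyt ↦ ?_⟩
  · have : x ∈ CohB1.genLocus _ (homOfSec t) ⊓ W := by rw [hco W _ heW]; exact hρ
    exact this.1
  · obtain ⟨T', e', hyT, he'⟩ := exists_affine_gen hL y
    have hz := (Scheme.IdealSheafData.mem_support_iff_of_mem (I := I) hyT).mp hy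
    rw [Scheme.mem_zeroLocus_iff] at hz
    have hb : y ∈ CohB1.genLocus _ (homOfSec t) ⊓ T'.1 := ⟨hyt, hyT⟩
    rw [hco T'.1 e' he'] at hb
    exact hz _ (IdealSh.IdealMod.sect_mem I T' _) hb

/-- Ampleness from generation of twists of finite type ideals. -/
theorem isAmple_of_ideals [CompactSpace X] [X.IsSeparated] (hL : PicF.IsInvertible L)
    (h : ∀ I : X.IdealSheafData, BlowUp.IsFiniteTypeIdeal I → ∀ x : X, x ∉ (I.support : Set X) →
      ∃ (n : ℕ) (t : Coh.structureModule X ⟶ CohB1.tensorPow L (n + 1)),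
        x ∈ CohB1.genLocus _ t ∧ Disjoint (I.support : Set X) (CohB1.genLocus _ t : Set X)) :
    CohB1.IsAmple L := by
  refine ⟨hL, inferInstance, fun x ↦ ?_⟩
  obtain ⟨W, hW, hxW, -⟩ := exists_isAffineOpen_mem_and_subset (X := X) (x := x) (U := ⊤) trivial
  obtain ⟨I, hI, hsupp⟩ := Props.SubIdeal.exists_ideal W hW.isCompact
  obtain ⟨n, t, hxt, hd⟩ := h I hI x (by rw [hsupp]; exact not_not_intro hxW)
  refine ⟨n, t, hxt, isAffineOpen_genLocus_of_le (isInvertible_tensorPow hL _) t hW fun y hy ↦ ?_⟩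
  by_contra hyW
  exact Set.disjoint_left.mp hd (hsupp ▸ hyW) hy

end Groth.Agent.AmpleLib

end
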