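import Groth.Agent.AmpleLib.Counit
import Groth.Agent.QCoh.FiniteType
import Groth.Agent.AmpleLib.Ideal

/-!
# Generation of twists by sections over an open on which `L` is ample
-/

set_option autoImplicit false
set_option linter.style.haveILetI false
universe u

open CategoryTheory Limits AlgebraicGeometry Opposite TopologicalSpace

noncomputable section

namespace Groth.Agent.AmpleLib

open Groth.Agent.QCoh Groth.Agent.Props.GenLocus Groth.Agent.Props.GenTensor Groth.Agent.Props.GenProd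
open Groth.Agent.PullStalk.Sky

variable {X : Scheme.{u}} {L : X.Modules} {O : X.Opens}

/-- On an open where `L` is ample, affine loci form a basis. -/
theorem exists_locus_le (hL : PicF.IsInvertible L) (h : AmpleOn L O) {x : X} (hxO : x ∈ O)
    {P : X.Opens} (hxP : x ∈ P) :
    ∃ (n : ℕ) (σ : Γ(CohB1.tensorPow L (n + 1), O)),
      x ∈ locus σ ∧ locus σ ≤ P ∧ IsAffineOpen (locus σ) := by
  have h' := isAmple_of_iso ((Scheme.Modules.restrictFunctorIsoPullback O.ι).app L)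
    ((isAmple_restrict_iff hL O).mpr h)
  obtain ⟨W, hW, hxW, hWP⟩ :=
    exists_isAffineOpen_mem_and_subset (X := X) (x := x) (U := P ⊓ O) ⟨hxP, hxO⟩
  obtain ⟨U, ⟨n, s', rfl⟩, hxU, hUW⟩ :=
    Opens.isBasis_iff_nbhd.mp (Props.GenExt.isBasis_of_isAmple h')
      (show (⟨x, hxO⟩ : O.toScheme) ∈ O.ι ⁻¹ᵁ W from hxW)
  obtain ⟨ρ, hρ⟩ := exists_push hL O s'
  have hle : locus ρ ≤ W := by
    rw [← hρ]
    refine (O.ι.image_mono hUW).trans ?_
    rw [Scheme.Hom.image_preimage_eq_opensRange_inf]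
    exact inf_le_right
  exact ⟨n, ρ, hρ ▸ ⟨⟨x, hxO⟩, hxU, rfl⟩, fun y hy ↦ (hWP (hle hy)).1,
    isAffineOpen_locus_of_le hL ρ hW (fun y hy ↦ (hWP hy).2) hle⟩

theorem exists_common_cover_on (hL : PicF.IsInvertible L) (h : AmpleOn L O) :
    ∃ (r k : ℕ) (s : Fin r → Γ(CohB1.tensorPow L k, O)) (U : Fin r → X.Opens),
      0 < k ∧ (∀ i, U i = locus (s i)) ∧ (∀ i, U i ≤ O) ∧ (∀ i, IsAffineOpen (U i)) ∧
      (∀ i, ∃ e : Γ(L, U i), IsGen L (U i) e) ∧ O ≤ iSup U := by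
  classical
  have key : ∀ x : O, ∃ (n : ℕ) (s : Γ(CohB1.tensorPow L (n + 1), O)) (U : X.Opens),
      U = locus s ∧ IsAffineOpen U ∧ x.1 ∈ U ∧ ∃ e : Γ(L, U), IsGen L U e := by
    intro x
    obtain ⟨V, e, hxV, he⟩ := exists_isGen hL x.1
    obtain ⟨n, σ, hxσ, hσV, haff⟩ := exists_locus_le hL h x.2 hxV
    exact ⟨n, σ, _, rfl, haff, hxσ, _, he.restrict hσV⟩
  choose n s U hU hUa hxU he using key
  obtain ⟨t, ht⟩ := h.1.elim_finite_subcover (fun x : O ↦ (U x : Set X))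
    (fun x ↦ (U x).2) fun x hx ↦ Set.mem_iUnion.mpr ⟨⟨x, hx⟩, hxU _⟩
  let k := ∏ x ∈ t, (n x + 1)
  let p : Fin t.card → O := fun i ↦ t.equivFin.symm i
  have hdvd : ∀ i, ∃ a, k = (n (p i) + 1) * a ∧ 0 < a := fun i ↦ by
    obtain ⟨a, ha⟩ := Finset.dvd_prod_of_mem (fun x ↦ n x + 1) (t.equivFin.symm i).2
    exact ⟨a, ha, Nat.pos_of_mul_pos_left (ha ▸ Finset.prod_pos fun x _ ↦ Nat.succ_pos (n x))⟩
  choose a ha hapos using hdvd
  choose s' hs' using fun i ↦ exists_pow_section hL (s (p i)) (hapos i) k (ha i)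
  refine ⟨t.card, k, s', fun i ↦ U (p i), Finset.prod_pos fun x _ ↦ Nat.succ_pos _,
    fun i ↦ (hU _).trans (hs' i).symm, fun i ↦ (hU (p i)).trans_le (locus_le _), fun i ↦ hUa _,
    fun i ↦ he _, fun x hx ↦ ?_⟩
  obtain ⟨y, hy, hxy⟩ := Set.mem_iUnion₂.mp (ht hx)
  refine Opens.mem_iSup.mpr ⟨t.equivFin ⟨y, hy⟩, ?_⟩
  simp only [p, Equiv.symm_apply_apply]
  exact hxy

theorem eventually_spanAt (hL : PicF.IsInvertible L) (h : AmpleOn L O)
    (hqs : IsQuasiSeparated (O : Set X)) {F : X.Modules} (hF : Coh.IsQCoh F)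
    (hFT : SheafOfModules.IsFiniteType.{u} F) :
    ∃ n₀ : ℕ, ∀ n, n₀ ≤ n → ∀ (x : X) (hx : x ∈ O) (W : X.Opens) (hxW : x ∈ W)
      (m : Γ(CohB1.tensorMod F (CohB1.tensorPow L n), W)),
      germM _ W x hxW m ∈ spanAt _ (O := O) hx := by
  classical
  haveI : F.IsQuasicoherent := hF
  haveI := hFT
  obtain ⟨r, k, s, U, hk, hU, hUO, hUa, he, hcov⟩ := exists_common_cover_on hL h
  choose e he using he
  have hfg : ∀ i, ∃ (d : ℕ) (σ : Fin d → Γ(F, U i)), Submodule.span Γ(X, U i) (Set.range σ) = ⊤ :=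
    fun i ↦ haveI := finite_sections_of_isFiniteType F (hUa i)
      Module.Finite.exists_fin
  choose d σ hσ using hfg
  choose N hN using fun p : Σ i, Fin (d i) × Fin k ↦
    exists_twist_on hF hL h.1 hqs (s p.1) (hU p.1) (hUO p.1) (he p.1) (σ p.1 p.2.1) p.2.2
  obtain ⟨N₀, hN₀⟩ : ∃ N₀, ∀ p, N p ≤ N₀ := Finite.exists_le N
  refine ⟨k * N₀, fun n hn ↦ ?_⟩
  obtain ⟨l, M, hl, rfl⟩ : ∃ l M, l < k ∧ n = l + k * M :=
    ⟨n % k, n / k, Nat.mod_lt _ hk, (Nat.mod_add_div n k).symm⟩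
  have hM : N₀ ≤ M := by
    by_contra hlt
    have : k * (M + 1) ≤ k * N₀ := Nat.mul_le_mul_left k (by omega)
    rw [Nat.mul_succ] at this
    omega
  intro x hx V hxV m
  let G := CohB1.tensorMod F (CohB1.tensorPow L (l + k * M))
  obtain ⟨i, hi⟩ := Opens.mem_iSup.mp (hcov hx)
  obtain ⟨g, hg, hxg⟩ := (hUa i).exists_basicOpen_le (V := V) ⟨x, hxV⟩ hi
  have hDU := X.basicOpen_le g
  have hDO : X.basicOpen g ≤ O := hDU.trans (hUO i)
  let P := fun f : Γ(F, X.basicOpen g) ↦ tmul f (res _ hDU (pw L (e i) (l + k * M)))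
  have hP : Function.Bijective P := tmul_gen_bijective (isGen_pw (he i) _) F hDU
  let S := spanAt G (O := O) hx
  let S' := fun z : Γ(G, X.basicOpen g) ↦ germM G _ x hxg z ∈ S
  suffices hall : ∀ f, S' (P f) by
    obtain ⟨f, hf⟩ := hP.2 (res _ hg m)
    have := hall f
    rw [hf] at this
    show germM G V x hxV m ∈ S
    rwa [show germM G V x hxV m = germM G _ x hxg (res G hg m) from
      (G.presheaf.germ_res_apply _ x hxg m).symm]
  have hsmul : ∀ (a : Γ(X, X.basicOpen g)) z, S' z → S' (a • z) := fun a z hz ↦ by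
    show germM G _ x hxg (a • z) ∈ S
    rw [germM_smul]
    exact S.smul_mem _ hz
  have hgens : ∀ j, S' (P (res F hDU (σ i j))) := by
    intro j
    obtain ⟨ρ, hρ⟩ := hN ⟨i, j, ⟨l, hl⟩⟩ M ((hN₀ _).trans hM)
    dsimp only at hρ
    let c := co k (s i) (hUO i) (he i)
    have hc : IsUnit (rres hDU c ^ M) := by
      have e1 : X.basicOpen c = U i := by
        rw [← locus_inf_eq (hUO i) (he i), ← hU, inf_idem]
      have hle : X.basicOpen g ≤ X.basicOpen c := e1.symm ▸ hDU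
      have h2 := (RingedSpace.isUnit_res_basicOpen _ c).map (rres hle).hom
      have h3 : rres hle (rres (X.basicOpen_le c) c) = rres hDU c := rres_rres _ _ _
      exact ((h3 ▸ h2 : IsUnit (rres hDU c))).pow M
    have h1 := congrArg (res _ hDU) hρ
    simp only [res_res, res_tmul, res_smul, map_pow, tmul_smul_left] at h1
    obtain ⟨w, hw⟩ := hc
    rw [show P (res F hDU (σ i j)) = (↑w⁻¹ : Γ(X, X.basicOpen g)) • res _ hDO ρ from ?_]
    · refine hsmul _ _ ?_
      exact Submodule.subset_span ⟨ρ, ((G.presheaf.germ_res_apply _ x hxg ρ)).symm⟩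
    · rw [h1, ← hw, smul_smul, Units.inv_mul, one_smul]
  intro f
  obtain ⟨a, t, ht⟩ := (isLocalizingAt F (hUa i) g).surj f
  obtain ⟨w, hw⟩ : IsUnit (rres hDU g ^ a) :=
    (RingedSpace.isUnit_res_basicOpen _ g).pow a
  have ht' : res F hDU t = (w : Γ(X, X.basicOpen g)) • f := by rw [ht, hw]
  have hSt : ∀ z ∈ Submodule.span Γ(X, U i) (Set.range (σ i)), S' (P (res F hDU z)) := by
    intro z hz
    induction hz using Submodule.span_induction with
    | mem z hz => obtain ⟨j, rfl⟩ := hz; exact hgens j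
    | zero =>
      have : P (res F hDU 0) = 0 := by
        simp only [P, map_zero]
        rw [← zero_smul Γ(X, X.basicOpen g) (0 : Γ(F, X.basicOpen g)), tmul_smul_left, zero_smul]
      show germM G _ x hxg _ ∈ S
      rw [this, germM, map_zero]; exact S.zero_mem
    | add z z' _ _ h1 h2 =>
      have : P (res F hDU (z + z')) = P (res F hDU z) + P (res F hDU z') := by
        simp only [P, map_add]
        exact tmul_add_left _ _ _
      show germM G _ x hxg _ ∈ S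
      rw [this, germM, map_add]; exact S.add_mem h1 h2
    | smul b z _ h1 =>
      have : P (res F hDU (b • z)) = rres hDU b • P (res F hDU z) := by
        simp only [P, res_smul, tmul_smul_left]
      rw [this]; exact hsmul _ _ h1
  have : P f = (↑w⁻¹ : Γ(X, X.basicOpen g)) • P (res F hDU t) := by
    rw [ht']
    simp only [P, tmul_smul_left, smul_smul, Units.inv_mul, one_smul]
  rw [this]
  exact hsmul _ _ (hSt t (hσ i ▸ Submodule.mem_top))

/-- Twists of finite type ideals generated over preimages of affines force relative ampleness. -/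
theorem isRelAmple_of_ideals {Y : Scheme.{u}} (f : X ⟶ Y) [QuasiCompact f] [CompactSpace X]
    [X.IsSeparated] (hL : PicF.IsInvertible L)
    (h : ∀ I : X.IdealSheafData, BlowUp.IsFiniteTypeIdeal I → ∃ n : ℕ, 0 < n ∧
      ∀ (V : Y.Opens), IsAffineOpen V → ∀ (x : X) (hx : f x ∈ V) (W : X.Opens) (hxW : x ∈ W)
        (m : Γ(CohB1.tensorMod (ClSub.idealMod I) (CohB1.tensorPow L n), W)),
        germM _ W x hxW m ∈ spanAt _ (O := f ⁻¹ᵁ V) hx) :
    RelAmple.IsRelAmple f L := by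
  refine isRelAmple_iff.mpr ⟨inferInstance, hL, fun V ↦ ⟨f.isCompact_preimage V.2.isCompact, fun x hx ↦ ?_⟩⟩
  obtain ⟨T, hT, hxT, hTV⟩ :=
    exists_isAffineOpen_mem_and_subset (X := X) (x := x) (U := f ⁻¹ᵁ V.1) hx
  obtain ⟨I, hI, hsupp⟩ := Props.SubIdeal.exists_ideal T hT.isCompact
  obtain ⟨n, hn, hspan⟩ := h I hI
  obtain ⟨T', e, hxT', he⟩ := exists_affine_gen hL x
  have hnx : x ∉ X.zeroLocus (I.ideal T' : Set Γ(X, T'.1)) := fun h ↦ by
    have := ((Scheme.IdealSheafData.mem_support_iff_of_mem (I := I) hxT')).mpr h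
    rw [← SetLike.mem_coe, hsupp] at this
    exact this hxT
  rw [Scheme.mem_zeroLocus_iff] at hnx
  push Not at hnx
  obtain ⟨g, hg, hxg⟩ := hnx
  obtain ⟨φ, hφ⟩ := IdealSh.IdealMod.exists_sect I T'.1 g
    ((IdealSh.IdealMod.mem_ideal_iff I T' g).mp hg)
  obtain ⟨W, hW, hWO, hxW, hmem⟩ := exists_res_mem_span_on _ hx hxT'
    (hspan V.1 V.2 x hx T'.1 hxT' (tmul φ (pw L e n)))
  rw [res_tmul, res_pw] at hmem
  obtain ⟨_, ⟨ρ, rfl⟩, hρ⟩ := exists_form (ClSub.idealModι I) (he.restrict hW) hxW _ hmem (by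
    show x ∈ X.basicOpen (OmegaSh.idealSect I W (res _ hW φ))
    rw [Omega.Stalks.idealSect_map, hφ, Scheme.basicOpen_res]
    exact ⟨hxW, hxg⟩)
  obtain ⟨t, ht⟩ := exists_contract_on hL (ClSub.idealModι I) ρ
  have hle : locus t ≤ T := by
    intro y hy
    by_contra hyT
    have hyO : y ∈ f ⁻¹ᵁ V.1 := locus_le t hy
    obtain ⟨U, e', hyU, he'⟩ := exists_isGen hL y
    obtain ⟨P, hP, hyP, hPU⟩ := exists_isAffineOpen_mem_and_subset (X := X) (x := y)
      (U := U ⊓ f ⁻¹ᵁ V.1) ⟨hyU, hyO⟩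
    have hb : y ∈ locus t ⊓ P := ⟨hy, hyP⟩
    have hPO : P ≤ f ⁻¹ᵁ V.1 := fun z hz ↦ (hPU hz).2
    rw [locus_inf_eq hPO (he'.restrict (fun z hz ↦ (hPU hz).1)) t, ht] at hb
    have hz := (Scheme.IdealSheafData.mem_support_iff_of_mem (I := I) (U := ⟨P, hP⟩) hyP).mp
      (by rw [← SetLike.mem_coe, hsupp]; exact hyT)
    rw [Scheme.mem_zeroLocus_iff] at hz
    exact hz _ (IdealSh.IdealMod.sect_mem I ⟨P, hP⟩ _) hb
  obtain ⟨j, rfl⟩ := Nat.exists_eq_succ_of_ne_zero hn.ne'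
  refine ⟨j, t, ?_, isAffineOpen_locus_of_le hL t hT hTV hle⟩
  have : x ∈ locus t ⊓ W := by
    rw [locus_inf_eq hWO (he.restrict hW) t, ht]
    exact hρ
  exact this.1

end Groth.Agent.AmpleLib

end
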