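import Groth.Agent.AmpleLib.Locus

/-!
# Ampleness on an open subscheme in terms of sections over the open
-/

set_option autoImplicit false
set_option linter.style.haveILetI false
universe u

open CategoryTheory Limits AlgebraicGeometry Opposite TopologicalSpace

noncomputable section

namespace Groth.Agent.AmpleLib

open Groth.Agent.QCoh Groth.Agent.Props.GenLocus Groth.Agent.Props.GenTensor Groth.Agent.Props.GenProd
  Groth.Agent.Props.GenPull Groth.Agent.Props.GenExt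

variable {X : Scheme.{u}} {L : X.Modules}

/-- A generator on an open subscheme gives a generator on its image. -/
theorem isGen_of_restrict {Y : Scheme.{u}} (j : Y ⟶ X) [IsOpenImmersion j] {U : Y.Opens}
    {e : Γ(L.restrict j, U)} (he : IsGen (L.restrict j) U e) :
    IsGen L (j ''ᵁ U) (show Γ(L, j ''ᵁ U) from e) := by
  intro V hV
  obtain ⟨W, hW, rfl⟩ : ∃ W : Y.Opens, W ≤ U ∧ j ''ᵁ W = V := by
    refine ⟨j ⁻¹ᵁ V, ?_, ?_⟩
    · refine (j.preimage_mono hV).trans ?_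
      rw [j.preimage_image_eq]
    · rw [Scheme.Hom.image_preimage_eq_opensRange_inf, inf_eq_right]
      exact hV.trans (j.image_le_opensRange U)
  have key : ∀ r : Γ(Y, W), sm (show Γ(L, j ''ᵁ U) from e) hV ((j.appIso W).inv r) =
      sm (L := L.restrict j) e hW r := fun r ↦
    (restrict_smul j L r _).symm.trans (by rfl)
  have hb : Function.Bijective fun r : Γ(Y, W) ↦ (j.appIso W).inv r :=
    (ConcreteCategory.isIso_iff_bijective (j.appIso W).inv).mp inferInstance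
  refine (Function.Bijective.of_comp_iff _ hb).mp ?_
  rw [show sm (show Γ(L, j ''ᵁ U) from e) hV ∘ (fun r : Γ(Y, W) ↦ (j.appIso W).inv r) =
    sm (L := L.restrict j) e hW from funext key]
  exact he W hW

theorem exists_isGen_of_isInvertible_restrict {O : X.Opens}
    (h : PicF.IsInvertible (L.restrict O.ι)) {x : X} (hx : x ∈ O) :
    ∃ (U : X.Opens) (e : Γ(L, U)), x ∈ U ∧ U ≤ O ∧ IsGen L U e := by
  obtain ⟨U, e, hxU, he⟩ := exists_isGen h (⟨x, hx⟩ : O.toScheme)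
  exact ⟨O.ι ''ᵁ U, e, ⟨⟨x, hx⟩, hxU, rfl⟩, (O.ι.image_le_opensRange U).trans O.opensRange_ι.le,
    isGen_of_restrict O.ι he⟩

lemma bijective_ι_app (O : X.Opens) {W : X.Opens} (h : W ≤ O) : Function.Bijective (O.ι.app W) := by
  haveI := O.ι.isIso_app W (h.trans O.opensRange_ι.ge)
  exact ConcreteCategory.bijective_of_isIso _

/-- A section over the open subscheme comes from a section over the open. -/
theorem exists_push (hL : PicF.IsInvertible L) (O : X.Opens) {K : ℕ}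
    (s' : Coh.structureModule O.toScheme ⟶
      CohB1.tensorPow ((Scheme.Modules.pullback O.ι).obj L) K) :
    ∃ ρ : Γ(CohB1.tensorPow L K, O), O.ι ''ᵁ CohB1.genLocus _ s' = locus ρ := by
  let c : ∀ (W : X.Opens) (_ : W ≤ O) (e : Γ(L, W)), IsGen L W e → Γ(X, W) := fun W h e he ↦
    (Equiv.ofBijective _ (bijective_ι_app O h)).symm (co K (sec s' ⊤) le_top (isGen_pb O.ι he))
  have hc : ∀ (W : X.Opens) (h : W ≤ O) (e : Γ(L, W)) (he : IsGen L W e),
      O.ι.app W (c W h e he) = co K (sec s' ⊤) le_top (isGen_pb O.ι he) := fun W h e he ↦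
    (Equiv.ofBijective _ (bijective_ι_app O h)).apply_symm_apply _
  obtain ⟨ρ, hρ⟩ := exists_of_coeff hL K O c
    (fun W W' h h' e he ↦ (bijective_ι_app O (h'.trans h)).1 (by
      rw [app_rres, hc W h e he, hc W' (h'.trans h) _ (he.restrict h'), co_res]
      congr 1
      exact (LFFrame.unitSec_res O.ι L h' e).symm))
    (fun W h e he u hu ↦ (bijective_ι_app O h).1 (by
      rw [map_mul, map_pow, hc W h (u • e) (he.smul_unit hu), hc W h e he, ← co_smul (sec s' ⊤) le_top (isGen_pb O.ι he) (hu.map (O.ι.app W).hom)]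
      congr 2
      exact LFFrame.unitSec_smul O.ι L W u e))
  refine ⟨ρ, ?_⟩
  have key : CohB1.genLocus _ s' = O.ι ⁻¹ᵁ locus ρ := by
    ext y
    obtain ⟨U, e, hyU, he⟩ := exists_isGen hL (O.ι y)
    have he' := he.restrict (inf_le_left : U ⊓ O ≤ U)
    have h1 := genLocus_inf_eq (isGen_pb O.ι he') s'
    have h2 := locus_inf_eq inf_le_right he' ρ
    rw [hρ] at h2
    rw [← hc _ inf_le_right _ he', ← Scheme.preimage_basicOpen, ← h2] at h1
    have h3 := congrArg (fun V : O.toScheme.Opens ↦ y ∈ V) h1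
    have hyUO : y ∈ O.ι ⁻¹ᵁ (U ⊓ O) := ⟨hyU, y.2⟩
    simp [hyUO, hyU] at h3
    exact ⟨fun h ↦ (h3.mp h).1, fun h ↦ h3.mpr ⟨h, by first | exact y.2 | exact hyU⟩⟩
  rw [key, Scheme.Hom.image_preimage_eq_opensRange_inf, Scheme.Opens.opensRange_ι,
    inf_eq_right.mpr (locus_le ρ)]

/-- A section over the open gives a section over the open subscheme. -/
theorem exists_pullOn (hL : PicF.IsInvertible L) (O : X.Opens) {K : ℕ}
    (ρ : Γ(CohB1.tensorPow L K, O)) :
    ∃ s' : Coh.structureModule O.toScheme ⟶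
        CohB1.tensorPow ((Scheme.Modules.pullback O.ι).obj L) K,
      CohB1.genLocus _ s' = O.ι ⁻¹ᵁ locus ρ := by
  let ι := {p : Σ W : X.Opens, Γ(L, W) // p.1 ≤ O ∧ IsGen L p.1 p.2}
  obtain ⟨s', hs'⟩ := exists_hom_of_cover (L := (Scheme.Modules.pullback O.ι).obj L)
    (fun i : ι => O.ι ⁻¹ᵁ i.1.1) (by
      intro x _
      obtain ⟨U, e, hxU, he⟩ := exists_isGen hL (O.ι x)
      exact Opens.mem_iSup.mpr ⟨(⟨⟨U ⊓ O, res L inf_le_left e⟩, inf_le_right,
        he.restrict inf_le_left⟩ : ι), ⟨hxU, x.2⟩⟩)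
    (fun i => pb O.ι i.1.2) (fun i => isGen_pb O.ι i.2.2) K
    (fun i => O.ι.app i.1.1 (co K ρ i.2.1 i.2.2)) (by
      rintro ⟨⟨W, e⟩, hWO, he⟩ ⟨⟨W', e'⟩, hWO', he'⟩ u' hu'
      obtain ⟨u, -, hu⟩ := exists_unit_smul (he.restrict (inf_le_left : W ⊓ W' ≤ W))
        (he'.restrict (inf_le_right : W ⊓ W' ≤ W'))
      have h1 := congrArg (LFFrame.unitSec O.ι L (W ⊓ W')) hu
      rw [LFFrame.unitSec_smul, LFFrame.unitSec_res, LFFrame.unitSec_res] at h1
      have h2 : u' = O.ι.app (W ⊓ W') u :=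
        ((isGen_pb O.ι he).restrict (O.ι.preimage_mono (inf_le_left : W ⊓ W' ≤ W))).injective le_rfl
          (by rw [res_self]; exact hu'.symm.trans h1)
      have h3 : rres (inf_le_left : W ⊓ W' ≤ W) (co K ρ hWO he) =
          u ^ K * rres (inf_le_right : W ⊓ W' ≤ W') (co K ρ hWO' he') := by
        rw [co_res, co_res]
        exact co_of_eq_smul _ _ _ _ hu
      have h4 := congrArg (O.ι.app (W ⊓ W')) h3
      rw [map_mul, map_pow, app_rres, app_rres, ← h2] at h4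
      exact h4)
  refine ⟨s', ?_⟩
  ext x
  obtain ⟨U, e, hxU, he⟩ := exists_isGen hL (O.ι x)
  have he' := he.restrict (inf_le_left : U ⊓ O ≤ U)
  have h1 := (hs' (⟨⟨U ⊓ O, res L inf_le_left e⟩, inf_le_right, he'⟩ : ι)).2
  dsimp only at h1
  rw [← Scheme.preimage_basicOpen, ← locus_inf_eq inf_le_right he' ρ] at h1
  have h2 := congrArg (fun V : O.toScheme.Opens => x ∈ V) h1
  have hxU' : x ∈ O.ι ⁻¹ᵁ (U ⊓ O) := ⟨hxU, x.2⟩
  simp [hxU', hxU] at h2
  exact ⟨fun h ↦ (h2.mp h).1, fun h ↦ h2.mpr ⟨h, by first | exact x.2 | exact hxU⟩⟩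

/-- Ampleness of `L` over the open `O`. -/
def AmpleOn (L : X.Modules) (O : X.Opens) : Prop :=
  IsCompact (O : Set X) ∧ ∀ x ∈ O, ∃ (n : ℕ) (σ : Γ(CohB1.tensorPow L (n + 1), O)),
    x ∈ locus σ ∧ IsAffineOpen (locus σ)

theorem isAmple_restrict_iff (hL : PicF.IsInvertible L) (O : X.Opens) :
    CohB1.IsAmple (L.restrict O.ι) ↔ AmpleOn L O := by
  rw [isAmple_iff_of_iso ((Scheme.Modules.restrictFunctorIsoPullback O.ι).app L)]
  constructor
  · rintro ⟨-, hc, h⟩
    refine ⟨isCompact_iff_compactSpace.mpr hc, fun x hx ↦ ?_⟩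
    obtain ⟨n, s', hxs, haff⟩ := h ⟨x, hx⟩
    obtain ⟨ρ, hρ⟩ := exists_push hL O s'
    exact ⟨n, ρ, hρ ▸ ⟨⟨x, hx⟩, hxs, rfl⟩, hρ ▸ haff.image_of_isOpenImmersion _⟩
  · rintro ⟨hc, h⟩
    refine ⟨PicCl.isInvertible_pullback _ hL, isCompact_iff_compactSpace.mp hc, fun x ↦ ?_⟩
    obtain ⟨n, ρ, hxρ, haff⟩ := h x.1 x.2
    obtain ⟨s', hs'⟩ := exists_pullOn hL O ρ
    refine ⟨n, s', ?_, ?_⟩
    · rw [hs']; exact hxρ
    · rw [hs', ← Scheme.Hom.isAffineOpen_iff_of_isOpenImmersion O.ι,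
        Scheme.Hom.image_preimage_eq_opensRange_inf, Scheme.Opens.opensRange_ι,
        inf_eq_right.mpr (locus_le ρ)]
      exact haff

theorem ampleOn_top_iff (hL : PicF.IsInvertible L) : AmpleOn L ⊤ ↔ CohB1.IsAmple L := by
  constructor
  · rintro ⟨hc, h⟩
    refine ⟨hL, isCompact_univ_iff.mp hc, fun x ↦ ?_⟩
    obtain ⟨n, σ, hxσ, haff⟩ := h x trivial
    exact ⟨n, homOfSec σ, by rw [genLocus_homOfSec]; exact ⟨hxσ, haff⟩⟩
  · rintro ⟨-, hc, h⟩
    refine ⟨isCompact_univ_iff.mpr hc, fun x _ ↦ ?_⟩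
    obtain ⟨n, s, hxs, haff⟩ := h x
    exact ⟨n, sec s ⊤, genLocus_eq_locus s ▸ ⟨hxs, haff⟩⟩

theorem ampleOn_mono (hL : PicF.IsInvertible L) {O O' : X.Opens} (h : AmpleOn L O) (hle : O' ≤ O)
    (hc : IsCompact (O' : Set X)) : AmpleOn L O' := by
  rw [← isAmple_restrict_iff hL] at h ⊢
  haveI : CompactSpace O'.toScheme := isCompact_iff_compactSpace.mp hc
  have h' := isAmple_pullback_of_isInducing (X.homOfLE hle)
    (X.homOfLE hle).isOpenEmbedding.isInducing h
  refine isAmple_of_iso ?_ h'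
  exact ((Scheme.Modules.pullback (X.homOfLE hle)).mapIso
    ((Scheme.Modules.restrictFunctorIsoPullback O.ι).app L)) ≪≫
    ((Scheme.Modules.pullbackComp (X.homOfLE hle) O.ι).app L) ≪≫
    ((Scheme.Modules.pullbackCongr (X.homOfLE_ι hle)).app L) ≪≫
    ((Scheme.Modules.restrictFunctorIsoPullback O'.ι).app L).symm

theorem isSeparated_of_ampleOn (hL : PicF.IsInvertible L) {O : X.Opens} (h : AmpleOn L O) :
    O.toScheme.IsSeparated :=
  isSeparated_of_isAmple ((isAmple_restrict_iff hL O).mpr h)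

end Groth.Agent.AmpleLib

end
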