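import Groth.Agent.Props.GenProd

/-!
# Stable base loci
-/

set_option autoImplicit false
universe u

open CategoryTheory Limits AlgebraicGeometry TopologicalSpace

noncomputable section

namespace Groth.Agent.AmpleLib

open Groth.Agent.Props.GenTensor Groth.Agent.Props.GenProd

variable {X : Scheme.{u}} {L : X.Modules}

/-- The stable base locus is the base locus of every multiple of one power. -/
theorem exists_stableBaseLocus [NoetherianSpace X] (hL : PicF.IsInvertible L) :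
    ∃ n₀ : ℕ, 0 < n₀ ∧ ∀ k : ℕ, 0 < k →
      {x : X | ∀ m : ℕ, 0 < m → ∀ s : Coh.structureModule X ⟶ CohB1.tensorPow L m,
          x ∉ CohB1.genLocus (CohB1.tensorPow L m) s} =
        {x : X | ∀ s : Coh.structureModule X ⟶ CohB1.tensorPow L (k * n₀),
          x ∉ CohB1.genLocus (CohB1.tensorPow L (k * n₀)) s} := by
  classical
  let ι := Σ m : {m : ℕ // 0 < m}, (Coh.structureModule X ⟶ CohB1.tensorPow L m.1)
  obtain ⟨F, hF⟩ := IsCompact.elim_finite_subcover
    (NoetherianSpace.isCompact (⋃ i : ι, (CohB1.genLocus _ i.2 : Set X)))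
    (fun i : ι => (CohB1.genLocus _ i.2 : Set X)) (fun i => (CohB1.genLocus _ i.2).2) subset_rfl
  refine ⟨∏ i ∈ F, i.1.1, Finset.prod_pos fun i _ => i.1.2, fun k hk => Set.ext fun x => ⟨?_, ?_⟩⟩
  · intro hx
    exact hx _ (Nat.mul_pos hk (Finset.prod_pos fun i _ => i.1.2))
  · intro hx m hm s hs
    obtain ⟨i, hi, hxi⟩ := Set.mem_iUnion₂.mp (hF (Set.mem_iUnion.mpr ⟨(⟨⟨m, hm⟩, s⟩ : ι), hs⟩))
    obtain ⟨a, ha⟩ : i.1.1 ∣ k * ∏ i ∈ F, i.1.1 := dvd_mul_of_dvd_right (Finset.dvd_prod_of_mem _ hi) _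
    have ha0 : 0 < a := Nat.pos_of_ne_zero fun h => by
      rw [h, mul_zero] at ha
      exact (Nat.mul_pos hk (Finset.prod_pos fun i _ => i.1.2)).ne' ha
    obtain ⟨t, ht⟩ := exists_pow hL i.2 a _ ha
    refine hx t ?_
    rw [genLocus_pow hL i.2 ha0 t ht]
    exact hxi

end Groth.Agent.AmpleLib
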